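import Cfsg.Agent.Lib.H98.TwoCentral
import Cfsg.Agent.Lib.H1.Cores
import Cfsg.Agent.Lib.H5.ZStar1

/-!
# Extremely closed abelian 2-subgroups: basics
-/

set_option autoImplicit false
set_option maxHeartbeats 1000000

open Cfsg

namespace H37.ExtCl

universe u

section basics
variable {G : Type u} [Group G] [Finite G]

/-- `H` acts on `X` -/
def Act (H X : Subgroup G) : Prop := ∀ h ∈ H, ∀ x ∈ X, h * x * h⁻¹ ∈ X

def Star (H : Subgroup G) : Prop :=
  ∀ g : G, ∃ X : Subgroup G, Odd (Nat.card X) ∧ Act H X ∧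
    ∀ h ∈ H, ∃ x ∈ X, ∃ k ∈ H, g * h * g⁻¹ = x * k

def Concl (H : Subgroup G) : Prop :=
  ∀ g : G, ∃ x ∈ pPrimeCore 2 G, ∀ h ∈ H, (x⁻¹ * g) * h * (x⁻¹ * g)⁻¹ ∈ H

theorem odd_order {X : Subgroup G} (hX : Odd (Nat.card X)) {x : G} (hx : x ∈ X) : Odd (orderOf x) := by
  have : orderOf (⟨x, hx⟩ : X) ∣ Nat.card X := orderOf_dvd_natCard _
  rw [Subgroup.orderOf_mk] at this
  exact Odd.of_dvd_nat hX this

theorem two_pow {H : Subgroup G} (hH : IsPGroup 2 H) {k : G} (hk : k ∈ H) : ∃ n : ℕ, k ^ 2 ^ n = 1 := by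
  obtain ⟨n, hn⟩ := hH ⟨k, hk⟩
  exact ⟨n, by simpa using congrArg Subtype.val hn⟩

/-- an odd order 2-element is trivial -/
theorem eq_one_of {k : G} {n m : ℕ} (h2 : k ^ 2 ^ n = 1) (hm : Odd m) (h : k ^ m = 1) : k = 1 := by
  have h3 : orderOf k ∣ 2 ^ n := orderOf_dvd_of_pow_eq_one h2
  have h4 : orderOf k ∣ m := orderOf_dvd_of_pow_eq_one h
  have h5 : orderOf k = 1 :=
    Nat.Coprime.eq_one_of_dvd (Nat.Coprime.coprime_dvd_left h4 ((Nat.coprime_two_right.mpr hm).pow_right n)) h3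
  rwa [orderOf_eq_one_iff] at h5

theorem inf_trivial {H X : Subgroup G} (hH : IsPGroup 2 H) (hX : Odd (Nat.card X)) {y : G} (h1 : y ∈ H)
    (h2 : y ∈ X) : y = 1 := by
  obtain ⟨n, hn⟩ := two_pow hH h1
  exact eq_one_of hn (odd_order hX h2) (pow_orderOf_eq_one y)

theorem Act.inv {H X : Subgroup G} (hA : Act H X) {h x : G} (hh : h ∈ H) (hx : x ∈ X) : h⁻¹ * x * h ∈ X := by
  have := hA h⁻¹ (H.inv_mem hh) x hx
  rwa [inv_inv] at this

theorem mul_pow_form {H X : Subgroup G} (hA : Act H X) {x k : G} (hx : x ∈ X) (hk : k ∈ H) (m : ℕ) :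
    ∃ x' ∈ X, (x * k) ^ m = x' * k ^ m := by
  induction m with
  | zero => exact ⟨1, X.one_mem, by simp⟩
  | succ m ih =>
    obtain ⟨x', hx', h⟩ := ih
    refine ⟨x' * (k ^ m * x * (k ^ m)⁻¹), X.mul_mem hx' (hA _ (H.pow_mem hk m) x hx), ?_⟩
    rw [pow_succ, h, pow_succ]
    group

theorem eq_one_of_odd {H X : Subgroup G} (hH : IsPGroup 2 H) (hX : Odd (Nat.card X)) (hA : Act H X)
    {x k : G} (hx : x ∈ X) (hk : k ∈ H) {m : ℕ} (hm : Odd m) (h : (x * k) ^ m = 1) : k = 1 := by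
  obtain ⟨x', hx', h1⟩ := mul_pow_form hA hx hk m
  rw [h] at h1
  have h2 : k ^ m = 1 := by
    apply inf_trivial hH hX (H.pow_mem hk m)
    rw [eq_inv_of_mul_eq_one_right h1.symm]
    exact X.inv_mem hx'
  obtain ⟨n, hn⟩ := two_pow hH hk
  exact eq_one_of hn hm h2

/-- the product subgroup -/
def prod {H X : Subgroup G} (hA : Act H X) : Subgroup G where
  carrier := {g | ∃ x ∈ X, ∃ k ∈ H, g = x * k}
  one_mem' := ⟨1, X.one_mem, 1, H.one_mem, by simp⟩
  mul_mem' := by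
    rintro _ _ ⟨x, hx, k, hk, rfl⟩ ⟨x', hx', k', hk', rfl⟩
    exact ⟨x * (k * x' * k⁻¹), X.mul_mem hx (hA k hk x' hx'), k * k', H.mul_mem hk hk', by group⟩
  inv_mem' := by
    rintro _ ⟨x, hx, k, hk, rfl⟩
    exact ⟨k⁻¹ * x⁻¹ * k, hA.inv hk (X.inv_mem hx), k⁻¹, H.inv_mem hk, by group⟩

/-- Sylow in `X H` -/
theorem conj_in {H X : Subgroup G} (hH : IsPGroup 2 H) (hX : Odd (Nat.card X)) (hA : Act H X) {g : G}
    (hg : ∀ h ∈ H, ∃ x ∈ X, ∃ k ∈ H, g * h * g⁻¹ = x * k) :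
    ∃ x ∈ X, ∀ h ∈ H, (x⁻¹ * g) * h * (x⁻¹ * g)⁻¹ ∈ H := by
  haveI : Fact (Nat.Prime 2) := ⟨Nat.prime_two⟩
  have h1 : H ≤ prod hA := fun k hk => ⟨1, X.one_mem, k, hk, by simp⟩
  have h2 : H.map (MulAut.conj g).toMonoidHom ≤ prod hA := by
    rintro _ ⟨h, hh, rfl⟩
    exact hg h hh
  obtain ⟨c, hc, T, hT, hT2, hHT, hgT⟩ := H98.TwoCentral.conjIn (prod hA) h1 h2 hH (hH.map _)
  have hTH : ∀ t ∈ T, t ∈ H := by
    intro t ht
    obtain ⟨x, hx, k, hk, rfl⟩ := hT ht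
    have h3 : x ∈ T := by
      have := T.mul_mem ht (T.inv_mem (hHT hk))
      rwa [mul_inv_cancel_right] at this
    rw [inf_trivial hT2 hX h3 hx, one_mul]
    exact hk
  have hc' : c⁻¹ ∈ prod hA := (prod hA).inv_mem hc
  obtain ⟨x, hx, k, hk, he⟩ := hc'
  refine ⟨x, hx, fun h hh => ?_⟩
  have h3 := hTH _ (hgT _ ⟨h, hh, rfl⟩)
  have h4 : x⁻¹ = k * c := by
    rw [eq_comm, ← mul_eq_one_iff_eq_inv, mul_assoc]
    have : c = k⁻¹ * x⁻¹ := by rw [← inv_inv c, he, mul_inv_rev]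
    rw [this]; group
  have h5 : (x⁻¹ * g) * h * (x⁻¹ * g)⁻¹ = k * (c * (g * h * g⁻¹) * c⁻¹) * k⁻¹ := by
    rw [h4]; group
  rw [h5]
  exact H.mul_mem (H.mul_mem hk h3) (H.inv_mem hk)

/-- normalizing elements -/
theorem norm_inv {H : Subgroup G} {n : G} (h : ∀ w ∈ H, n * w * n⁻¹ ∈ H) : ∀ w ∈ H, n⁻¹ * w * n ∈ H := by
  intro w hw
  let F : H → H := fun e => ⟨n * e * n⁻¹, h e e.2⟩
  have hF : Function.Injective F := by
    intro x y hxy
    have : n * (x : G) * n⁻¹ = n * y * n⁻¹ := congrArg Subtype.val hxy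
    exact Subtype.ext (mul_left_cancel (mul_right_cancel this))
  obtain ⟨e, he⟩ := Finite.surjective_of_injective hF ⟨w, hw⟩
  have h1 : n * (e : G) * n⁻¹ = w := congrArg Subtype.val he
  rw [← h1]
  have : n⁻¹ * (n * (e : G) * n⁻¹) * n = e := by group
  rw [this]; exact e.2

theorem Star.dec {H : Subgroup G} (hS : Star H) (hH : IsPGroup 2 H) (g : G) :
    ∃ X : Subgroup G, Odd (Nat.card X) ∧ Act H X ∧ ∃ x ∈ X, ∃ n : G, (∀ h ∈ H, n * h * n⁻¹ ∈ H) ∧ g = x * n := by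
  obtain ⟨X, hX, hA, hg⟩ := hS g
  obtain ⟨x, hx, hn⟩ := conj_in hH hX hA hg
  exact ⟨X, hX, hA, x, hx, x⁻¹ * g, hn, by group⟩

theorem odd_card_subgroupOf {X C : Subgroup G} (hX : Odd (Nat.card X)) : Odd (Nat.card (X.subgroupOf C)) := by
  refine Odd.of_dvd_nat hX ?_
  have := Subgroup.card_comap_dvd_of_injective X C.subtype C.subtype_injective
  exact this

theorem Star.subgroupOf {H C : Subgroup G} (hS : Star H) (hHC : H ≤ C) : Star (H.subgroupOf C) := by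
  intro g
  obtain ⟨X, hX, hA, hg⟩ := hS g
  refine ⟨X.subgroupOf C, odd_card_subgroupOf hX, ?_, ?_⟩
  · intro h hh x hx
    rw [Subgroup.mem_subgroupOf] at *
    exact hA h hh x hx
  · intro h hh
    obtain ⟨x, hx, k, hk, he⟩ := hg h (Subgroup.mem_subgroupOf.mp hh)
    have hxC : x ∈ C := by
      have : x = (g : G) * h * (g : G)⁻¹ * k⁻¹ := by rw [he, mul_inv_cancel_right]
      rw [this]
      exact C.mul_mem (C.mul_mem (C.mul_mem g.2 h.2) (C.inv_mem g.2)) (C.inv_mem (hHC hk))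
    exact ⟨⟨x, hxC⟩, Subgroup.mem_subgroupOf.mpr hx, ⟨k, hHC hk⟩, Subgroup.mem_subgroupOf.mpr hk,
      Subtype.ext he⟩

theorem Star.map {Q : Type u} [Group Q] [Finite Q] (f : G →* Q) (hf : Function.Surjective f) {H : Subgroup G}
    (hS : Star H) : Star (H.map f) := by
  intro q
  obtain ⟨g, rfl⟩ := hf q
  obtain ⟨X, hX, hA, hg⟩ := hS g
  refine ⟨X.map f, Odd.of_dvd_nat hX (Subgroup.card_map_dvd X f), ?_, ?_⟩
  · rintro _ ⟨h, hh, rfl⟩ _ ⟨x, hx, rfl⟩
    exact ⟨h * x * h⁻¹, hA h hh x hx, by simp⟩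
  · rintro _ ⟨h, hh, rfl⟩
    obtain ⟨x, hx, k, hk, he⟩ := hg h hh
    exact ⟨f x, ⟨x, hx, rfl⟩, f k, ⟨k, hk, rfl⟩, by rw [← map_inv, ← map_mul, ← map_mul, he, map_mul]⟩

end basics

/-- if `O(G) = 1` and `u` is a central involution then `O(G/⟨u⟩) = 1` -/
theorem core_quotient_central {G : Type u} [Group G] [Finite G] (hO : pPrimeCore 2 G = ⊥) {z : G}
    (hz : orderOf z = 2) [hzn : (Subgroup.zpowers z).Normal] (hzc : z ∈ Subgroup.center G) :
    pPrimeCore 2 (G ⧸ Subgroup.zpowers z) = ⊥ := by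
  have : Fact (Nat.Prime 2) := ⟨Nat.prime_two⟩
  set Z := Subgroup.zpowers z with hZ
  set N : Subgroup G := (pPrimeCore 2 (G ⧸ Z)).comap (QuotientGroup.mk' Z) with hN
  have hNn : N.Normal := (H1.Cores.pPrimeCore_normal 2).comap _
  have hZN : Z ≤ N := by
    intro x hx
    rw [hN, Subgroup.mem_comap]
    have : (QuotientGroup.mk' Z) x = 1 := (QuotientGroup.eq_one_iff x).mpr hx
    rw [this]; exact one_mem _
  have hcardN : Nat.card N = 2 * Nat.card (pPrimeCore 2 (G ⧸ Z)) := by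
    have h0 : Nat.card Z = 2 := by rw [hZ, Nat.card_zpowers, hz]
    rw [hN, H1.Cores.card_comap_mk', h0]
  have hodd : ¬ 2 ∣ Nat.card (pPrimeCore 2 (G ⧸ Z)) := by
    have h1 := H1.Cores.coprime_card_pPrimeCore (G := G ⧸ Z) 2
    intro h2
    have h3 : Nat.Coprime 2 2 := h1.coprime_dvd_left h2
    exact absurd h3 (by decide)
  have hzN : z ∈ N := hZN (Subgroup.mem_zpowers z)
  have hcardP : Nat.card (Subgroup.zpowers (⟨z, hzN⟩ : N)) = 2 ^ (Nat.card N).factorization 2 := by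
    rw [Nat.card_zpowers, Subgroup.orderOf_mk, hz, hcardN,
      Nat.factorization_mul (by norm_num) (Nat.card_pos.ne'), Finsupp.add_apply,
      Nat.factorization_eq_zero_of_not_dvd hodd, Nat.Prime.factorization_self Nat.prime_two]
    norm_num
  let P : Sylow 2 N := Sylow.ofCard _ hcardP
  have hPc : (P : Subgroup N) ≤ Subgroup.center N := by
    rintro x hx
    have hx' : x ∈ Subgroup.zpowers (⟨z, hzN⟩ : N) := hx
    have h1 : Subgroup.zpowers (⟨z, hzN⟩ : N) ≤ Subgroup.center N := by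
      rw [Subgroup.zpowers_le, Subgroup.mem_center_iff]
      intro y
      apply Subtype.ext
      exact Subgroup.mem_center_iff.mp hzc y
    exact h1 hx'
  have hPn : Subgroup.normalizer ((P : Subgroup N) : Set N) ≤ Subgroup.centralizer ((P : Subgroup N) : Set N) := by
    intro x _
    rw [Subgroup.mem_centralizer_iff]
    intro y hy
    exact (Subgroup.mem_center_iff.mp (hPc hy) x).symm
  have hcompl := MonoidHom.ker_transferSylow_isComplement' P hPn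
  set K := (MonoidHom.transferSylow P hPn).ker with hK
  have hcardK : Nat.card K * 2 = Nat.card N := by
    have h1 := hcompl.card_mul_card
    have h2 : Nat.card P = 2 := by
      have : Nat.card P = Nat.card (Subgroup.zpowers (⟨z, hzN⟩ : N)) := rfl
      rw [this, Nat.card_zpowers, Subgroup.orderOf_mk, hz]
    rw [h2] at h1
    exact h1
  have hKodd : (Nat.card K).Coprime 2 := by
    rw [hcardN, mul_comm 2] at hcardK
    have h1 : Nat.card K = Nat.card (pPrimeCore 2 (G ⧸ Z)) := Nat.eq_of_mul_eq_mul_right (by norm_num) hcardK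
    rw [h1]
    exact H1.Cores.coprime_card_pPrimeCore 2
  have hKle : K ≤ pPrimeCore 2 N := H1.Cores.le_pPrimeCore (by rw [hK]; infer_instance) hKodd
  have h2 : (pPrimeCore 2 N).map N.subtype = ⊥ := by
    rw [H1.Cores.map_subtype_pPrimeCore, hO, inf_bot_eq]
  rw [Subgroup.map_eq_bot_iff_of_injective _ N.subtype_injective] at h2
  have h3 : K = ⊥ := by rw [h2] at hKle; exact le_bot_iff.mp hKle
  have h4 : Nat.card N = 2 := by
    rw [← hcardK, h3, Subgroup.card_bot]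
  rw [hcardN] at h4
  exact Subgroup.card_eq_one.mp (Nat.eq_of_mul_eq_mul_left (by norm_num : 0 < 2) (by rw [mul_one]; exact h4))

end H37.ExtCl
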