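import Cfsg.Agent.Lib.H37.CMax3
import Cfsg.Agent.Lib.H83.BdC3
import Cfsg.Agent.Lib.H18.Bender
import Cfsg.Agent.S1136
import Cfsg.Agent.S0280

/-!
# Maximality of the centraliser of an involution: the strongly embedded case, main theorem
-/

set_option autoImplicit false
set_option maxHeartbeats 1000000

namespace H37.CMax4

open Subgroup H37.PSLab H37.CMax1 H37.CMax2 H37.CMax3

universe u

/-- simple groups with a strongly embedded subgroup -/
theorem concl {G : Type u} [Group G] [Finite G] [IsSimpleGroup G] {H : Subgroup G}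
    (hH : Cfsg.IsStronglyEmbedded H) : H16.BS.Concl G :=
  H83.BdC.concl_of_se H18.Bender.bender
    (fun _ _ _ _ _ _ _ _ _ hS h2 => Cfsg.Agent.S1136.result hS h2) hH

theorem no_concl {G : Type u} [Group G] [Finite G] [IsSimpleGroup G] (T : Sylow 2 G)
    (hT : Nat.card (T : Subgroup G) = 8)
    (h3 : 3 ∣ Nat.card (normalizer ((T : Subgroup G) : Set G)))
    (h7 : 7 ∣ Nat.card (normalizer ((T : Subgroup G) : Set G))) : ¬ H16.BS.Concl G := by
  have hp : Fact (Nat.Prime 2) := ⟨Nat.prime_two⟩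
  intro hc
  obtain ⟨m, hm⟩ : ∃ m, Nat.card G = 8 * m := by
    have := Subgroup.card_subgroup_dvd_card (T : Subgroup G)
    rwa [hT] at this
  have hmo : ¬ 2 ∣ m := by
    intro h
    have h1 := Subgroup.card_mul_index (T : Subgroup G)
    rw [hT, hm] at h1
    have h2 : (T : Subgroup G).index = m := Nat.eq_of_mul_eq_mul_left (by norm_num) h1
    exact T.not_dvd_index (h2 ▸ h)
  have h64 : ¬ 64 ∣ Nat.card G := by
    rw [hm, show 64 = 8 * 8 by norm_num, Nat.mul_dvd_mul_iff_left (by norm_num)]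
    intro h
    exact hmo (Dvd.dvd.trans (by norm_num) h)
  rcases H16.BSSimple.weak_concl hc with ⟨F, iF, iFf, ⟨n, hn, hcF⟩, ⟨e⟩⟩ | ⟨-, k, hk, hcG⟩ |
      ⟨F, iF, iFf, n, hn, hcF, ⟨e⟩⟩
  · have h1 := H6.SmallIsoA.card_psl2 (F := F)
    rw [← Nat.card_congr e.toEquiv, hcF] at h1
    have hq : 4 ≤ 2 ^ n := by
      calc 4 = 2 ^ 2 := by norm_num
        _ ≤ 2 ^ n := Nat.pow_le_pow_right (by norm_num) hn
    have hev : Even (2 ^ n) := Nat.even_pow.mpr ⟨even_two, by omega⟩
    have hg : Nat.gcd 2 (2 ^ n - 1) = 1 := by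
      rw [← Nat.coprime_iff_gcd_eq_one, Nat.coprime_two_left]
      obtain ⟨j, hj⟩ := hev
      exact ⟨j - 1, by omega⟩
    rw [hg, one_mul] at h1
    obtain ⟨q, hqe⟩ : ∃ q, q = 2 ^ n := ⟨_, rfl⟩
    rw [← hqe] at h1 hq hev
    obtain ⟨r, hr⟩ : ∃ r, q = r + 1 := ⟨q - 1, by omega⟩
    have hG : Nat.card G = q * (q ^ 2 - 1) := by
      have h2 : (q - 1) * Nat.card G = (q - 1) * (q * (q ^ 2 - 1)) := by
        rw [h1]
        have : q ^ 2 - q = (q - 1) * q := by
          rw [Nat.sub_mul, one_mul, sq]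
        rw [this]; ring
      exact Nat.eq_of_mul_eq_mul_left (by omega) h2
    have hodd : ¬ 2 ∣ q ^ 2 - 1 := by
      obtain ⟨j, hj⟩ := hev
      intro h
      have h2 : q ^ 2 = 2 * (2 * j * j) := by rw [hj]; ring
      have : 0 < j := by omega
      have : 0 < 2 * j * j := by positivity
      omega
    have h8q : 8 ∣ q := by
      have h2 : 8 ∣ q * (q ^ 2 - 1) := by rw [← hG, hm]; exact Dvd.intro _ rfl
      refine Nat.Coprime.dvd_of_dvd_mul_right ?_ h2
      rw [show 8 = 2 ^ 3 by norm_num]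
      exact Nat.Coprime.pow_left 3 ((Nat.Prime.coprime_iff_not_dvd Nat.prime_two).2 hodd)
    have hn3 : n = 3 := by
      have h4 : ¬ 16 ∣ q := by
        intro h
        have : 16 ∣ Nat.card G := by rw [hG]; exact Dvd.dvd.mul_right h _
        rw [hm, show 16 = 8 * 2 by norm_num, Nat.mul_dvd_mul_iff_left (by norm_num)] at this
        exact hmo this
      rw [hqe, show 8 = 2 ^ 3 by norm_num, Nat.pow_dvd_pow_iff_le_right (by norm_num)] at h8q
      rw [hqe, show 16 = 2 ^ 4 by norm_num, Nat.pow_dvd_pow_iff_le_right (by norm_num)] at h4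
      omega
    have hG504 : Nat.card G = 504 := by rw [hG, hqe, hn3]; norm_num
    -- Sylow
    have hN : 168 ∣ Nat.card (normalizer ((T : Subgroup G) : Set G)) := by
      have h8 : 8 ∣ Nat.card (normalizer ((T : Subgroup G) : Set G)) := by
        rw [← hT]; exact Subgroup.card_dvd_of_le le_normalizer
      omega
    have hidx := Subgroup.card_mul_index (normalizer ((T : Subgroup G) : Set G))
    obtain ⟨w, hw⟩ := hN
    rw [hG504, hw] at hidx
    have h5 : (normalizer ((T : Subgroup G) : Set G)).index ∣ 3 := by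
      refine ⟨w, ?_⟩
      have h6 : 168 * 3 = 168 * ((normalizer ((T : Subgroup G) : Set G)).index * w) := by
        calc 168 * 3 = 504 := by norm_num
          _ = 168 * w * (normalizer ((T : Subgroup G) : Set G)).index := hidx.symm
          _ = _ := by ring
      exact Nat.eq_of_mul_eq_mul_left (by norm_num) h6
    have hNtop : normalizer ((T : Subgroup G) : Set G) ≠ ⊤ := by
      intro h
      have hTn : (T : Subgroup G).Normal := Subgroup.normalizer_eq_top_iff.1 h
      rcases hTn.eq_bot_or_eq_top with h8 | h8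
      · rw [h8, Subgroup.card_bot] at hT; omega
      · have h9 : Nat.card (⊤ : Subgroup G) = 8 := by rw [← h8]; exact hT
        rw [Subgroup.card_top, hG504] at h9
        omega
    have hi3 : (normalizer ((T : Subgroup G) : Set G)).index = 3 := by
      rcases (Nat.dvd_prime Nat.prime_three).1 h5 with h | h
      · exact absurd (Subgroup.index_eq_one.1 h) hNtop
      · exact h
    -- the action on the three cosets
    have hcore : (normalizer ((T : Subgroup G) : Set G)).normalCore = ⊥ := by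
      rcases (Subgroup.normalCore_normal (normalizer ((T : Subgroup G) : Set G))).eq_bot_or_eq_top with h | h
      · exact h
      · exfalso
        apply hNtop
        rw [eq_top_iff, ← h]
        exact Subgroup.normalCore_le _
    have hker : (MulAction.toPermHom G (G ⧸ normalizer ((T : Subgroup G) : Set G))).ker = ⊥ := by
      rw [← Subgroup.normalCore_eq_ker, hcore]
    have hinj : Function.Injective (MulAction.toPermHom G (G ⧸ normalizer ((T : Subgroup G) : Set G))) :=
      (MonoidHom.ker_eq_bot_iff _).1 hker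
    have h9 := Nat.card_le_card_of_injective _ hinj
    rw [hG504, Nat.card_perm, ← Subgroup.index_eq_card, hi3] at h9
    exact absurd h9 (by decide)
  · apply h64
    rw [hcG]
    have h1 : (64 : ℕ) ∣ (2 ^ (2 * k + 1)) ^ 2 := by
      rw [← pow_mul, show 64 = 2 ^ 6 by norm_num]
      exact pow_dvd_pow 2 (by omega)
    exact Dvd.dvd.mul_right (Dvd.dvd.mul_right h1 _) _
  · apply h64
    have h1 := Cfsg.Agent.S0280.result (F := F) (q := 2 ^ n) hcF 3 (by norm_num)
    rw [← Nat.card_congr e.toEquiv] at h1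
    have hq3 : (64 : ℕ) ∣ (2 ^ n) ^ 3 := by
      rw [← pow_mul, show 64 = 2 ^ 6 by norm_num]
      exact pow_dvd_pow 2 (by omega)
    have h2 : 64 ∣ Nat.gcd 3 (2 ^ n + 1) * ((2 ^ n + 1) * Nat.card G) := by
      rw [h1]
      exact Dvd.dvd.mul_right hq3 _
    have hev : Even (2 ^ n) := Nat.even_pow.mpr ⟨even_two, by omega⟩
    have hodd1 : Odd (2 ^ n + 1) := hev.add_one
    have hodd2 : Odd (Nat.gcd 3 (2 ^ n + 1)) := Odd.of_dvd_nat hodd1 (Nat.gcd_dvd_right _ _)
    have c1 : Nat.Coprime 64 (Nat.gcd 3 (2 ^ n + 1)) := by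
      rw [show 64 = 2 ^ 6 by norm_num]
      exact Nat.Coprime.pow_left 6 (Nat.coprime_two_left.2 hodd2)
    have c2 : Nat.Coprime 64 (2 ^ n + 1) := by
      rw [show 64 = 2 ^ 6 by norm_num]
      exact Nat.Coprime.pow_left 6 (Nat.coprime_two_left.2 hodd1)
    exact c2.dvd_of_dvd_mul_left (c1.dvd_of_dvd_mul_left h2)

theorem main {G : Type u} [Group G] [Finite G] [IsSimpleGroup G] (hna : ¬ IsMulCommutative G)
    (S : Sylow 2 G) (hS : IsMulCommutative (S : Subgroup G)) (t : G) (ht : orderOf t = 2)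
    (E E₀ : Subgroup G)
    (hprod : Cfsg.IsInternalDirectProduct (Subgroup.zpowers t) E (Subgroup.centralizer ({t} : Set G)))
    (hE₀E : E₀ ≤ E) (hE₀n : (E₀.subgroupOf E).Normal) (hf : Fct E₀)
    (hCE : E ⊓ Subgroup.centralizer (E₀ : Set G) = ⊥) :
    IsCoatom (Subgroup.centralizer ({t} : Set G)) := by
  have hp : Fact (Nat.Prime 2) := ⟨Nat.prime_two⟩
  have hab : ∀ P : Sylow 2 G, ∀ a ∈ (P : Subgroup G), ∀ b ∈ (P : Subgroup G), a * b = b * a := by
    intro P a ha b hb
    obtain ⟨g, hg⟩ := MulAction.exists_smul_eq G S P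
    have h1 : ∀ x ∈ (P : Subgroup G), ∃ y ∈ (S : Subgroup G), g * y * g⁻¹ = x := by
      intro x hx
      rw [← hg] at hx
      rw [Sylow.coe_subgroup_smul, Subgroup.mem_smul_pointwise_iff_exists] at hx
      obtain ⟨y, hy, hyx⟩ := hx
      exact ⟨y, hy, hyx⟩
    obtain ⟨x, hx, rfl⟩ := h1 a ha
    obtain ⟨y, hy, rfl⟩ := h1 b hb
    have h2 : x * y = y * x :=
      congrArg Subtype.val (hS.is_comm.comm (⟨x, hx⟩ : (S : Subgroup G)) ⟨y, hy⟩)
    calc g * x * g⁻¹ * (g * y * g⁻¹) = g * (x * y) * g⁻¹ := by group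
      _ = g * (y * x) * g⁻¹ := by rw [h2]
      _ = g * y * g⁻¹ * (g * x * g⁻¹) := by group
  obtain ⟨T, V, c⟩ := exists_ctx hab t ht E E₀ hprod hE₀E hE₀n hf hCE
  have hTab : IsMulCommutative (T : Subgroup G) := ⟨⟨fun a b => Subtype.ext (c.Tc a a.2 b b.2)⟩⟩
  have hcomm := H58.AbSyl.commutator_eq_top hna
  -- transitivity of `N_G(T)`
  have hall : ∀ x ∈ (T : Subgroup G), x ≠ 1 →
      ∃ k ∈ normalizer ((T : Subgroup G) : Set G), k * t * k⁻¹ = x := by
    rcases c.orbit (normalizer ((T : Subgroup G) : Set G)) le_normalizer le_rfl (fun g _ h => h) with h | h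
    · exact h
    · exact absurd (H58.AbSyl.eq_one_of_fixed hcomm T hTab c.tT h) c.ht1
  obtain ⟨h3, h7⟩ := c.dvd hall
  constructor
  · intro h
    have h1 : t ∈ center G := by
      rw [mem_center_iff]
      intro g
      have : g ∈ centralizer ({t} : Set G) := by rw [h]; trivial
      exact mem_centralizer_singleton_iff.1 this
    rw [H58.AbSyl.center_eq_bot hna, Subgroup.mem_bot] at h1
    exact c.ht1 h1
  · intro H hH
    by_contra hHtop
    have hCH : ∀ x, x * t = t * x → x ∈ H := fun x hx => hH.le (mem_centralizer_singleton_iff.2 hx)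
    have hTH : (T : Subgroup G) ≤ H := fun x hx => hCH x (c.Tc x hx t c.tT)
    rcases c.orbit (H ⊓ normalizer ((T : Subgroup G) : Set G)) (le_inf hTH le_normalizer) inf_le_right
      (fun g hg hgN => mem_inf.2 ⟨hCH g (c.Ecomm g (c.le hg)), hgN⟩) with h | h
    · have hse : Cfsg.IsStronglyEmbedded H := c.se hHtop hCH (fun x hx hx1 => by
        obtain ⟨k, hk, hkt⟩ := h x hx hx1
        exact ⟨k, (mem_inf.1 hk).1, hkt⟩)
      exact no_concl T c.card_T h3 h7 (concl hse)
    · have h1 := isolated c H hCH hall (fun k hk hkN => h k (mem_inf.2 ⟨hk, hkN⟩))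
      apply hH.not_ge
      intro x hx
      exact mem_centralizer_singleton_iff.2 (h1 x hx)

end H37.CMax4
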