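import Mathlib
import Cfsg.Agent.Lib.H37.EX2
import Cfsg.Agent.Lib.H5.ZStar3
import Cfsg.Agent.Lib.H20.BsG

set_option autoImplicit false
set_option linter.all false
set_option maxHeartbeats 1000000

/-! Extremely closed abelian `p`-subgroups: character computations (towards S3016). -/

namespace H37.EX1

open Subgroup H75.PH Cfsg H18.CharBasic H18.CharOrtho H18.CharInd

universe u

section fs

variable {G : Type u} [Group G] [Fintype G]

/-- the finset of a set -/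
noncomputable def fs (S : Set G) : Finset G := (Set.toFinite S).toFinset

theorem mem_fs {S : Set G} {x : G} : x ∈ fs S ↔ x ∈ S := Set.Finite.mem_toFinset _

theorem card_fs (S : Set G) : (fs S).card = Nat.card S := by
  rw [fs, ← Set.ncard_eq_toFinset_card]; rfl

theorem sum_left {H : Subgroup G} (f : G → ℂ) {h : G} (hh : h ∈ H) :
    ∑ t ∈ fs (H : Set G), f (h * t) = ∑ t ∈ fs (H : Set G), f t := by
  refine Finset.sum_nbij' (fun t => h * t) (fun t => h⁻¹ * t) ?_ ?_ ?_ ?_ ?_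
  · intro t ht; rw [mem_fs] at ht ⊢; exact H.mul_mem hh ht
  · intro t ht; rw [mem_fs] at ht ⊢; exact H.mul_mem (H.inv_mem hh) ht
  · intro t _; simp
  · intro t _; simp
  · intro t _; rfl

theorem sum_right {H : Subgroup G} (f : G → ℂ) {h : G} (hh : h ∈ H) :
    ∑ t ∈ fs (H : Set G), f (t * h) = ∑ t ∈ fs (H : Set G), f t := by
  refine Finset.sum_nbij' (fun t => t * h) (fun t => t * h⁻¹) ?_ ?_ ?_ ?_ ?_
  · intro t ht; rw [mem_fs] at ht ⊢; exact H.mul_mem ht hh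
  · intro t ht; rw [mem_fs] at ht ⊢; exact H.mul_mem ht (H.inv_mem hh)
  · intro t _; simp
  · intro t _; simp
  · intro t _; rfl

theorem central_sum {χ : G → ℂ} (hχ : IsIrrCharacter G χ) {Z : Finset G}
    (hZ : ∀ z ∈ Z, ∀ g : G, g * z * g⁻¹ ∈ Z) (a : G) :
    ∑ z ∈ Z, χ (z * a) = (∑ z ∈ Z, χ z) / χ 1 * χ a := by
  have hcl := isClassFunction_of_isIrr hχ
  have hG : (Nat.card G : ℂ) ≠ 0 := by exact_mod_cast (Nat.card_pos (α := G)).ne'
  have h1 : ∀ g : G, ∑ z ∈ Z, χ (a * (g * z * g⁻¹)) = ∑ z ∈ Z, χ (z * a) := by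
    intro g
    refine Finset.sum_nbij' (fun z => g * z * g⁻¹) (fun z => g⁻¹ * z * g) ?_ ?_ ?_ ?_ ?_
    · intro z hz; exact hZ z hz g
    · intro z hz
      have := hZ z hz g⁻¹
      rwa [inv_inv] at this
    · intro z _; group
    · intro z _; group
    · intro z _; exact classFunction_mul_comm hcl _ _
  have h2 : (Nat.card G : ℂ) * ∑ z ∈ Z, χ (z * a) = (Nat.card G : ℂ) * ((∑ z ∈ Z, χ z) / χ 1 * χ a) := by
    calc (Nat.card G : ℂ) * ∑ z ∈ Z, χ (z * a) = ∑ g : G, ∑ z ∈ Z, χ (a * (g * z * g⁻¹)) := by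
          rw [Finset.sum_congr rfl (fun g _ => h1 g), Finset.sum_const, Finset.card_univ,
            ← Nat.card_eq_fintype_card, nsmul_eq_mul]
      _ = ∑ z ∈ Z, ∑ g : G, χ (a * (g * z * g⁻¹)) := Finset.sum_comm
      _ = ∑ z ∈ Z, (Nat.card G : ℂ) * χ z / χ 1 * χ a :=
          Finset.sum_congr rfl fun z _ => H5.ZStar3.sum_char_conj hχ a z
      _ = _ := by
          rw [Finset.sum_div, Finset.sum_mul, Finset.mul_sum]
          refine Finset.sum_congr rfl fun z _ => ?_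
          ring
  exact mul_left_cancel₀ hG h2

theorem prod_sum {χ : G → ℂ} (hχ : IsIrrCharacter G χ) {T U : Finset G}
    (hinj : ∀ t ∈ T, ∀ u ∈ U, ∀ t' ∈ T, ∀ u' ∈ U, t * u = t' * u' → t = t' ∧ u = u')
    (hinv : ∀ t ∈ T, ∀ u ∈ U, ∀ g : G, ∃ t' ∈ T, ∃ u' ∈ U, g * (t * u) * g⁻¹ = t' * u') (a : G) :
    ∑ t ∈ T, ∑ u ∈ U, χ (t * u * a) = (∑ t ∈ T, ∑ u ∈ U, χ (t * u)) / χ 1 * χ a := by
  classical
  set Z : Finset G := (T ×ˢ U).image (fun x => x.1 * x.2) with hZ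
  have hinj' : Set.InjOn (fun x : G × G => x.1 * x.2) ((T ×ˢ U : Finset (G × G)) : Set (G × G)) := by
    rintro ⟨t, u⟩ h1 ⟨t', u'⟩ h2 e
    rw [Finset.mem_coe, Finset.mem_product] at h1 h2
    obtain ⟨e1, e2⟩ := hinj t h1.1 u h1.2 t' h2.1 u' h2.2 e
    rw [e1, e2]
  have hs : ∀ f : G → ℂ, ∑ z ∈ Z, f z = ∑ t ∈ T, ∑ u ∈ U, f (t * u) := by
    intro f
    rw [hZ, Finset.sum_image hinj', Finset.sum_product]
  have h1 := central_sum hχ (Z := Z) (by
    intro z hz g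
    rw [hZ, Finset.mem_image] at hz
    obtain ⟨⟨t, u⟩, htu, rfl⟩ := hz
    rw [Finset.mem_product] at htu
    obtain ⟨t', ht', u', hu', e⟩ := hinv t htu.1 u htu.2 g
    rw [hZ, Finset.mem_image]
    exact ⟨(t', u'), Finset.mem_product.2 ⟨ht', hu'⟩, e.symm⟩) a
  rw [hs (fun z => χ (z * a)), hs (fun z => χ z)] at h1
  exact h1

end fs

section main

variable {G : Type u} [Group G] [Fintype G] {p : ℕ} [hp : Fact p.Prime] {H : Subgroup G} {χ : G → ℂ}

noncomputable def FF (p : ℕ) (H : Subgroup G) (χ : G → ℂ) (a : G) : ℂ := ∑ u ∈ fs (UU p H), χ (u * a)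

noncomputable def XX (H : Subgroup G) (χ : G → ℂ) (a : G) : ℂ := ∑ h ∈ fs (H : Set G), χ (a * h)

noncomputable def om (p : ℕ) (H : Subgroup G) (T : Set G) (χ : G → ℂ) : ℂ :=
  (∑ t ∈ fs T, ∑ u ∈ fs (UU p H), χ (t * u)) / χ 1

/-- the nontrivial elements -/
def H1 (H : Subgroup G) : Set G := {t | t ∈ H ∧ t ≠ 1}

theorem XX_mul {h : G} (hh : h ∈ H) (a : G) : XX H χ (a * h) = XX H χ a := by
  unfold XX
  have := sum_left (H := H) (fun t => χ (a * t)) hh
  rw [← this]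
  refine Finset.sum_congr rfl fun t _ => ?_
  rw [mul_assoc]

theorem A1 (E : Ext p H) (hcl : ∀ t ∈ H, t ≠ 1 → Cls (MM p H t)) (hχ : IsIrrCharacter G χ) {T : Set G}
    (hT : T ⊆ H1 H) (hTc : ∀ t ∈ T, ∀ a ∈ normalizer (H : Set G), a * t * a⁻¹ ∈ T) (a : G) :
    ∑ t ∈ fs T, FF p H χ (a * t) = om p H T χ * χ a := by
  have hcf := isClassFunction_of_isIrr hχ
  have h1 := prod_sum hχ (T := fs T) (U := fs (UU p H)) (by
    intro t ht u hu t' ht' u' hu' e
    rw [mem_fs] at ht hu ht' hu'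
    exact hu_uniq E (hT ht).1 (hT ht').1 hu hu' e) (by
    intro t ht u hu g
    rw [mem_fs] at ht hu
    obtain ⟨t', ht', u', hu', e⟩ := Z_inv E (fun x hx => (hT hx).1) hTc
      (fun x hx => hcl x (hT hx).1 (hT hx).2) ht hu g
    exact ⟨t', mem_fs.2 ht', u', mem_fs.2 hu', e⟩) a
  unfold om
  rw [← h1]
  refine Finset.sum_congr rfl fun t _ => ?_
  unfold FF
  refine Finset.sum_congr rfl fun u _ => ?_
  have : u * (a * t) = (u * a) * t := by group
  rw [this, classFunction_mul_comm hcf, mul_assoc]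

theorem H1_inv : ∀ t ∈ H1 H, ∀ a ∈ normalizer (H : Set G), a * t * a⁻¹ ∈ H1 H := by
  intro t ht a ha
  refine ⟨(mem_normalizer_iff.1 ha t).1 ht.1, fun h => ht.2 ?_⟩
  have : t = a⁻¹ * (a * t * a⁻¹) * a := by group
  rw [this, h]; group

theorem sum_H (f : G → ℂ) : ∑ t ∈ fs (H : Set G), f t = f 1 + ∑ t ∈ fs (H1 H), f t := by
  classical
  have h1 : fs (H : Set G) = insert 1 (fs (H1 H)) := by
    ext x
    rw [Finset.mem_insert, mem_fs, mem_fs]
    constructor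
    · intro h
      by_cases hx : x = 1
      · exact Or.inl hx
      · exact Or.inr ⟨h, hx⟩
    · rintro (h | h)
      · rw [h]; exact H.one_mem
      · exact h.1
  rw [h1, Finset.sum_insert]
  rw [mem_fs]
  exact fun h => h.2 rfl

theorem card_fsH : ((fs (H : Set G)).card : ℂ) = (Nat.card H : ℂ) := by rw [card_fs]; rfl

/-- the sum `S` -/
noncomputable def SS (p : ℕ) (H : Subgroup G) (χ : G → ℂ) (a : G) : ℂ := ∑ t ∈ fs (H : Set G), FF p H χ (a * t)

theorem SS_mul {h : G} (hh : h ∈ H) (a : G) : SS p H χ (a * h) = SS p H χ a := by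
  unfold SS
  have := sum_left (H := H) (fun t => FF p H χ (a * t)) hh
  rw [← this]
  refine Finset.sum_congr rfl fun t _ => ?_
  rw [mul_assoc]

theorem SS_eq (E : Ext p H) (hcl : ∀ t ∈ H, t ≠ 1 → Cls (MM p H t)) (hχ : IsIrrCharacter G χ) (a : G) :
    SS p H χ a = FF p H χ a + om p H (H1 H) χ * χ a := by
  have h1 := A1 E hcl hχ (T := H1 H) (fun x hx => hx) H1_inv a
  unfold SS
  rw [sum_H, mul_one, h1]

theorem A2 (E : Ext p H) (hcl : ∀ t ∈ H, t ≠ 1 → Cls (MM p H t)) (hχ : IsIrrCharacter G χ) (a : G) :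
    ((Nat.card H : ℂ) - 1) * SS p H χ a = om p H (H1 H) χ * XX H χ a := by
  have h1 : ∑ h ∈ fs (H : Set G), SS p H χ (a * h) = (Nat.card H : ℂ) * SS p H χ a := by
    rw [Finset.sum_congr rfl (fun h hh => SS_mul (mem_fs.1 hh) a), Finset.sum_const, nsmul_eq_mul, card_fsH]
  have h2 : ∑ h ∈ fs (H : Set G), SS p H χ (a * h) = SS p H χ a + om p H (H1 H) χ * XX H χ a := by
    rw [Finset.sum_congr rfl (fun h hh => SS_eq E hcl hχ (a * h)), Finset.sum_add_distrib, ← Finset.mul_sum]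
    rfl
  rw [h1] at h2
  linear_combination h2

theorem A2' (E : Ext p H) (hcl : ∀ t ∈ H, t ≠ 1 → Cls (MM p H t)) (hχ : IsIrrCharacter G χ) (a : G) :
    ((Nat.card H : ℂ) - 1) * FF p H χ a =
      om p H (H1 H) χ * (XX H χ a - ((Nat.card H : ℂ) - 1) * χ a) := by
  have h1 := A2 E hcl hχ a
  rw [SS_eq E hcl hχ a] at h1
  linear_combination h1

/-- the maximum principle -/
theorem A3 (E : Ext p H) (hcl : ∀ t ∈ H, t ≠ 1 → Cls (MM p H t)) (hχ : IsIrrCharacter G χ)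
    (hH : Nat.card H ≠ 1) (hne : (Nat.card H : ℂ) * χ 1 - XX H χ 1 ≠ 0) :
    ‖om p H (H1 H) χ‖ ≤ Nat.card (UU p H) := by
  set q : ℂ := (Nat.card H : ℂ) with hq
  set ω := om p H (H1 H) χ with hω
  have hq1 : q - 1 ≠ 0 := by
    intro h
    apply hH
    have : (Nat.card H : ℂ) = 1 := by rw [← hq]; linear_combination h
    exact_mod_cast this
  set e : G → ℂ := fun a => q * χ a - XX H χ a with he
  have key : ∀ a : G, ∑ u ∈ fs (UU p H), e (u * a) = -ω * e a := by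
    intro a
    have h1 : ∑ u ∈ fs (UU p H), XX H χ (u * a) = SS p H χ a := by
      unfold XX SS FF
      rw [Finset.sum_comm]
      refine Finset.sum_congr rfl fun h _ => Finset.sum_congr rfl fun u _ => ?_
      rw [mul_assoc]
    have h2 : ∑ u ∈ fs (UU p H), e (u * a) = q * FF p H χ a - SS p H χ a := by
      rw [he]
      simp only
      rw [Finset.sum_sub_distrib, h1, ← Finset.mul_sum]
      rfl
    rw [h2]
    apply mul_left_cancel₀ hq1
    have h3 := A2 E hcl hχ a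
    have h4 := A2' E hcl hχ a
    rw [← hq, ← hω] at h3 h4
    rw [he]
    simp only
    linear_combination q * h4 - h3
  obtain ⟨a0, ha0⟩ := Finite.exists_max (fun a : G => ‖e a‖)
  have hpos : 0 < ‖e a0‖ := by
    have h1 : 0 < ‖e 1‖ := norm_pos_iff.2 hne
    exact lt_of_lt_of_le h1 (ha0 1)
  have h1 : ‖ω‖ * ‖e a0‖ ≤ (Nat.card (UU p H) : ℝ) * ‖e a0‖ := by
    calc ‖ω‖ * ‖e a0‖ = ‖∑ u ∈ fs (UU p H), e (u * a0)‖ := by rw [key a0, norm_mul, norm_neg]
      _ ≤ ∑ u ∈ fs (UU p H), ‖e (u * a0)‖ := norm_sum_le _ _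
      _ ≤ ∑ u ∈ fs (UU p H), ‖e a0‖ := Finset.sum_le_sum fun u _ => ha0 _
      _ = _ := by rw [Finset.sum_const, nsmul_eq_mul, card_fs]
  exact le_of_mul_le_mul_right h1 hpos

/-- `T`-relation -/
theorem A4 (E : Ext p H) (hcl : ∀ t ∈ H, t ≠ 1 → Cls (MM p H t)) (hχ : IsIrrCharacter G χ) {T : Set G}
    (hT : T ⊆ H1 H) (hTc : ∀ t ∈ T, ∀ a ∈ normalizer (H : Set G), a * t * a⁻¹ ∈ T)
    (hx : XX H χ 1 ≠ 0) (hω : om p H (H1 H) χ ≠ 0) {a : G} (ha : a ∈ H) :
    (Nat.card T : ℂ) * XX H χ 1 - ((Nat.card H : ℂ) - 1) * ∑ t ∈ fs T, χ (a * t) = (Nat.card T : ℂ) * χ a := by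
  set q : ℂ := (Nat.card H : ℂ) with hq
  set ω := om p H (H1 H) χ with hωd
  set x := XX H χ 1 with hxd
  set m : ℂ := (Nat.card T : ℂ) with hm
  have hX : ∀ b ∈ H, XX H χ b = x := by
    intro b hb
    have := XX_mul (χ := χ) hb 1
    rwa [one_mul] at this
  have h1 : ∀ b ∈ H, ω * (m * x - (q - 1) * ∑ t ∈ fs T, χ (b * t)) = (q - 1) * (om p H T χ * χ b) := by
    intro b hb
    have h2 := A1 E hcl hχ hT hTc b
    rw [← h2]
    have h3 : ∀ t ∈ fs T, (q - 1) * FF p H χ (b * t) = ω * (x - (q - 1) * χ (b * t)) := by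
      intro t ht
      rw [A2' E hcl hχ (b * t), hX (b * t) (H.mul_mem hb (hT (mem_fs.1 ht)).1)]
    symm
    calc (q - 1) * ∑ t ∈ fs T, FF p H χ (b * t) = ∑ t ∈ fs T, (q - 1) * FF p H χ (b * t) := Finset.mul_sum _ _ _
      _ = ∑ t ∈ fs T, ω * (x - (q - 1) * χ (b * t)) := Finset.sum_congr rfl h3
      _ = _ := by
        rw [← Finset.mul_sum, Finset.sum_sub_distrib, Finset.sum_const, nsmul_eq_mul, card_fs, ← Finset.mul_sum]
  have h2 : ∑ b ∈ fs (H : Set G), ∑ t ∈ fs T, χ (b * t) = m * x := by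
    rw [Finset.sum_comm]
    have h3 : ∀ t ∈ fs T, ∑ b ∈ fs (H : Set G), χ (b * t) = x := by
      intro t ht
      have h4 := sum_right (H := H) (fun b => χ b) (hT (mem_fs.1 ht)).1
      rw [h4, hxd, XX]
      simp only [one_mul]
    rw [Finset.sum_congr rfl h3, Finset.sum_const, nsmul_eq_mul, card_fs]
  have h3 : ∑ b ∈ fs (H : Set G), χ b = x := by
    rw [hxd, XX]; simp only [one_mul]
  have h4 : ω * (m * q * x - (q - 1) * (m * x)) = (q - 1) * (om p H T χ * x) := by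
    have h5 : ∑ b ∈ fs (H : Set G), ω * (m * x - (q - 1) * ∑ t ∈ fs T, χ (b * t)) =
        ∑ b ∈ fs (H : Set G), (q - 1) * (om p H T χ * χ b) :=
      Finset.sum_congr rfl fun b hb => h1 b (mem_fs.1 hb)
    rw [← Finset.mul_sum, Finset.sum_sub_distrib, Finset.sum_const, nsmul_eq_mul, card_fsH, ← Finset.mul_sum,
      h2, ← Finset.mul_sum, ← Finset.mul_sum, h3] at h5
    linear_combination h5
  have h5 : ω * m = (q - 1) * om p H T χ := by
    apply mul_right_cancel₀ hx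
    linear_combination h4
  have h6 := h1 a ha
  apply mul_left_cancel₀ hω
  linear_combination h6 - χ a * h5

/-- transitivity -/
theorem A5 (E : Ext p H) (hcl : ∀ t ∈ H, t ≠ 1 → Cls (MM p H t)) (hχ : IsIrrCharacter G χ)
    (hne : (Nat.card H : ℂ) * χ 1 - XX H χ 1 ≠ 0)
    (hx : XX H χ 1 ≠ 0) (hω : om p H (H1 H) χ ≠ 0) {h h' : G} (hh : h ∈ H1 H) (hh' : h' ∈ H1 H) :
    ∃ a ∈ normalizer (H : Set G), a * h * a⁻¹ = h' := by
  have hcf := isClassFunction_of_isIrr hχ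
  set x := XX H χ 1 with hxd
  set q : ℂ := (Nat.card H : ℂ) with hq
  have orb : ∀ y ∈ H1 H, ({t | ∃ a ∈ normalizer (H : Set G), a * y * a⁻¹ = t} : Set G) ⊆ H1 H := by
    rintro y hy _ ⟨a, ha, rfl⟩
    exact H1_inv y hy a ha
  have orbc : ∀ y : G, ∀ t ∈ ({t | ∃ a ∈ normalizer (H : Set G), a * y * a⁻¹ = t} : Set G),
      ∀ b ∈ normalizer (H : Set G), b * t * b⁻¹ ∈ ({t | ∃ a ∈ normalizer (H : Set G), a * y * a⁻¹ = t} : Set G) := by
    rintro y _ ⟨a, ha, rfl⟩ b hb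
    exact ⟨b * a, mul_mem hb ha, by group⟩
  have cardne : ∀ y : G, (Nat.card ({t | ∃ a ∈ normalizer (H : Set G), a * y * a⁻¹ = t} : Set G) : ℂ) ≠ 0 := by
    intro y
    have : Nonempty ({t | ∃ a ∈ normalizer (H : Set G), a * y * a⁻¹ = t} : Set G) :=
      ⟨⟨y, 1, one_mem _, by group⟩⟩
    exact_mod_cast (Nat.card_pos (α := ({t | ∃ a ∈ normalizer (H : Set G), a * y * a⁻¹ = t} : Set G))).ne'
  -- constancy
  have hconst : ∀ y ∈ H1 H, (q - 1) * χ y = x - χ 1 := by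
    intro y hy
    have h1 := A4 E hcl hχ (orb y hy) (orbc y) hx hω H.one_mem
    have h2 : ∀ t ∈ fs ({t | ∃ a ∈ normalizer (H : Set G), a * y * a⁻¹ = t} : Set G), χ (1 * t) = χ y := by
      intro t ht
      obtain ⟨a, _, rfl⟩ := mem_fs.1 ht
      rw [one_mul]
      exact (classFunction_isConj hcf (isConj_iff.2 ⟨a, rfl⟩)).symm
    rw [Finset.sum_congr rfl h2, Finset.sum_const, nsmul_eq_mul, card_fs] at h1
    apply mul_left_cancel₀ (cardne y)
    linear_combination -h1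
  by_contra hcon
  push Not at hcon
  have h1 := A4 E hcl hχ (orb h hh) (orbc h) hx hω (a := h'⁻¹) (H.inv_mem hh'.1)
  have h2 : ∀ t ∈ fs ({t | ∃ a ∈ normalizer (H : Set G), a * h * a⁻¹ = t} : Set G),
      (q - 1) * χ (h'⁻¹ * t) = x - χ 1 := by
    intro t ht
    have ht' := mem_fs.1 ht
    apply hconst
    refine ⟨H.mul_mem (H.inv_mem hh'.1) (orb h hh ht').1, fun e => ?_⟩
    obtain ⟨a, ha, hat⟩ := ht'
    apply hcon a ha
    rw [hat]
    exact (inv_mul_eq_one.1 e).symm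
  rw [Finset.mul_sum, Finset.sum_congr rfl h2, Finset.sum_const, nsmul_eq_mul, card_fs] at h1
  have h3 : χ 1 = χ h'⁻¹ := by
    apply mul_left_cancel₀ (cardne h)
    linear_combination h1
  have h4 := hconst h'⁻¹ ⟨H.inv_mem hh'.1, inv_ne_one.2 hh'.2⟩
  rw [← h3] at h4
  apply hne
  linear_combination h4

end main

end H37.EX1
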