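import Mathlib
import Cfsg.Agent.Lib.H37.EX3
import Cfsg.Agent.S0942
import Cfsg.Agent.Lib.H4.Integral
import Cfsg.Agent.Lib.H78.Cong
import Cfsg.Agent.Lib.H1.Cores
import Cfsg.Agent.Lib.H20.Orth
import Cfsg.Agent.Lib.H18.CharQuot

set_option autoImplicit false
set_option linter.all false
set_option maxHeartbeats 1000000

/-! Extremely closed abelian `p`-subgroups: the block argument (towards S3016). -/

namespace H37.EX1

open Subgroup H75.PH Cfsg H18.CharBasic H18.CharOrtho H18.CharInd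
open scoped ComplexConjugate

universe u

section main

variable {G : Type u} [Group G] [Fintype G] {p : ℕ} [hp : Fact p.Prime] {H : Subgroup G}

/-- the trivial character -/
noncomputable def tri (G : Type u) [Group G] : IrrCharacter G := ⟨fun _ => 1, isIrrCharacter_one⟩

theorem tri_apply (g : G) : (tri G : G → ℂ) g = 1 := rfl

theorem ne_tri {χ : IrrCharacter G} (h : χ ≠ tri G) : (χ : G → ℂ) ≠ fun _ => 1 := fun e => h (Subtype.ext e)

theorem ker_top {χ : IrrCharacter G} (h : ∀ g : G, (χ : G → ℂ) g = (χ : G → ℂ) 1) : χ = tri G := by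
  by_contra hne
  have hne' := ne_tri hne
  have h2 := inner_irr_ne χ.2 isIrrCharacter_one hne'
  have h3 : (χ : G → ℂ) = (χ : G → ℂ) 1 • (fun _ => (1 : ℂ)) := by
    ext g; simp [h g]
  rw [h3, H18.CharOrtho.inner_smul_left, inner_irr_self isIrrCharacter_one, mul_one] at h2
  exact irr_one_ne_zero χ.2 h2

theorem XX_one (χ : G → ℂ) : XX H χ 1 = ∑ h ∈ fs (H : Set G), χ h := by
  unfold XX; simp only [one_mul]

/-- nontrivial characters are not constant on `H` -/
theorem sum_ne (htop : normalClosure (H : Set G) = ⊤) {χ : IrrCharacter G} (hne : χ ≠ tri G) :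
    (Nat.card H : ℂ) * (χ : G → ℂ) 1 - XX H (χ : G → ℂ) 1 ≠ 0 := by
  intro h0
  apply hne
  have hc := isCharacter_of_isIrr χ.2
  have hle : ∀ h ∈ fs (H : Set G), ((χ : G → ℂ) h).re ≤ ((χ : G → ℂ) 1).re := fun h _ =>
    (Complex.re_le_norm _).trans (char_norm_le hc h)
  have hsum : ∑ h ∈ fs (H : Set G), ((χ : G → ℂ) h).re = ∑ h ∈ fs (H : Set G), ((χ : G → ℂ) 1).re := by
    have h1 : XX H (χ : G → ℂ) 1 = (Nat.card H : ℂ) * (χ : G → ℂ) 1 := by linear_combination -h0
    rw [XX_one] at h1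
    have h2 := congrArg Complex.re h1
    rw [Complex.re_sum] at h2
    rw [h2, Finset.sum_const, card_fs, nsmul_eq_mul]
    have : (Nat.card H : ℂ) = (((Nat.card H : ℕ) : ℝ) : ℂ) := by norm_cast
    rw [this, Complex.re_ofReal_mul]
    rfl
  have heq := (Finset.sum_eq_sum_iff_of_le hle).1 hsum
  have hK : (H : Set G) ⊆ H18.CharQuot.kerSub _ hc := by
    intro h hh
    rw [SetLike.mem_coe, H18.CharQuot.mem_kerSub]
    have h1 := heq h (mem_fs.2 hh)
    have h2 := char_norm_le hc h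
    rw [← h1] at h2
    have h3 : ((χ : G → ℂ) h).im = 0 := by
      have h4 : ‖(χ : G → ℂ) h‖ = ((χ : G → ℂ) h).re := le_antisymm h2 (Complex.re_le_norm _)
      have h5 := Complex.sq_norm ((χ : G → ℂ) h)
      rw [h4, Complex.normSq_apply] at h5
      nlinarith
    obtain ⟨n, hn⟩ := exists_degree hc
    apply Complex.ext
    · exact h1
    · rw [h3, hn]; simp
  have hK2 : normalClosure (H : Set G) ≤ H18.CharQuot.kerSub _ hc := by
    haveI := H18.CharQuot.kerSub_normal hc
    exact normalClosure_le_normal hK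
  rw [htop] at hK2
  exact ker_top fun g => (H18.CharQuot.mem_kerSub hc).1 (hK2 trivial)

theorem A6 (E : Ext p H) (hcl : ∀ t ∈ H, t ≠ 1 → Cls (MM p H t)) (hH : Nat.card H ≠ 1)
    (hA : ∃ x ∈ normalizer (H : Set G), x ∉ H) :
    ∃ χ : IrrCharacter G, χ ≠ tri G ∧ om p H (H1 H) (χ : G → ℂ) ≠ 0 ∧ XX H (χ : G → ℂ) 1 ≠ 0 := by
  classical
  by_contra hcon
  push Not at hcon
  letI := Fintype.ofFinite (IrrCharacter G)
  set q : ℂ := (Nat.card H : ℂ) with hq
  have hq1 : q - 1 ≠ 0 := by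
    intro h
    apply hH
    have : (Nat.card H : ℂ) = 1 := by rw [← hq]; linear_combination h
    exact_mod_cast this
  have hz : ∀ χ : IrrCharacter G, χ ≠ tri G → SS p H (χ : G → ℂ) 1 = 0 := by
    intro χ hχ
    have h1 := A2 E hcl χ.2 1
    apply mul_left_cancel₀ hq1
    rw [mul_zero, h1]
    by_cases hω : om p H (H1 H) (χ : G → ℂ) = 0
    · rw [hω, zero_mul]
    · rw [hcon χ hχ hω, mul_zero]
  have h1 : ∑ χ : IrrCharacter G, (χ : G → ℂ) 1 * SS p H (χ : G → ℂ) 1 = q * (Nat.card (UU p H) : ℂ) := by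
    rw [Finset.sum_eq_single (tri G)]
    · unfold SS FF
      simp only [tri_apply, Finset.sum_const, one_mul, nsmul_eq_mul, mul_one]
      rw [card_fs, card_fs]
      rfl
    · intro χ _ hχ
      rw [hz χ hχ, mul_zero]
    · intro h; exact absurd (Finset.mem_univ _) h
  have h2 : ∑ χ : IrrCharacter G, (χ : G → ℂ) 1 * SS p H (χ : G → ℂ) 1 = (Nat.card G : ℂ) := by
    have e1 : ∀ χ : IrrCharacter G, (χ : G → ℂ) 1 * SS p H (χ : G → ℂ) 1 =
        ∑ t ∈ fs (H : Set G), ∑ u ∈ fs (UU p H), (χ : G → ℂ) (u * t) * conj ((χ : G → ℂ) 1) := by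
      intro χ
      obtain ⟨n, hn⟩ := exists_degree (isCharacter_of_isIrr χ.2)
      have hc : conj ((χ : G → ℂ) 1) = (χ : G → ℂ) 1 := by rw [hn]; simp
      unfold SS FF
      rw [Finset.mul_sum]
      refine Finset.sum_congr rfl fun t _ => ?_
      rw [Finset.mul_sum]
      refine Finset.sum_congr rfl fun u _ => ?_
      rw [hc, one_mul, mul_comm]
    rw [Finset.sum_congr rfl (fun χ _ => e1 χ), Finset.sum_comm]
    have e2 : ∀ t ∈ fs (H : Set G), ∑ χ : IrrCharacter G, ∑ u ∈ fs (UU p H),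
        (χ : G → ℂ) (u * t) * conj ((χ : G → ℂ) 1) = if t = 1 then (Nat.card G : ℂ) else 0 := by
      intro t ht
      rw [mem_fs] at ht
      rw [Finset.sum_comm]
      have e3 : ∀ u ∈ fs (UU p H), ∑ χ : IrrCharacter G, (χ : G → ℂ) (u * t) * conj ((χ : G → ℂ) 1) =
          if u = 1 ∧ t = 1 then (Nat.card G : ℂ) else 0 := by
        intro u hu
        rw [mem_fs] at hu
        rw [column_orthogonality]
        by_cases hut : u * t = 1
        · have h3 : u = t⁻¹ := eq_inv_of_mul_eq_one_left hut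
          have h4 : u = 1 := U_norm E hu (by rw [h3]; exact H_norm (H.inv_mem ht))
          have h5 : t = 1 := by rw [h4, one_mul] at hut; exact hut
          rw [if_pos (show u = 1 ∧ t = 1 from ⟨h4, h5⟩), hut, if_pos (IsConj.refl (1 : G))]
          have h6 : centralizer ({(1 : G)} : Set G) = ⊤ := by
            rw [eq_top_iff]
            intro x _
            rw [mem_centralizer_singleton_iff, mul_one, one_mul]
          rw [h6, card_top]
        · rw [if_neg, if_neg]
          · rintro ⟨h3, h4⟩; apply hut; rw [h3, h4, one_mul]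
          · intro h3
            exact hut (isConj_one_left.1 h3)
      rw [Finset.sum_congr rfl e3]
      by_cases ht1 : t = 1
      · rw [if_pos ht1]
        rw [Finset.sum_eq_single 1]
        · rw [if_pos ⟨rfl, ht1⟩]
        · intro u _ hu
          rw [if_neg]
          exact fun h => hu h.1
        · intro h
          exact absurd (mem_fs.2 (one_mem_U E)) h
      · rw [if_neg ht1]
        apply Finset.sum_eq_zero
        intro u _
        rw [if_neg]
        exact fun h => ht1 h.2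
    rw [Finset.sum_congr rfl e2, Finset.sum_eq_single 1]
    · rw [if_pos rfl]
    · intro t _ ht; rw [if_neg ht]
    · intro h
      exact absurd (mem_fs.2 H.one_mem) h
  rw [h1] at h2
  have h3 : Nat.card H * Nat.card (UU p H) = Nat.card G := by rw [hq] at h2; exact_mod_cast h2
  -- bijection
  let f : H × (UU p H) → G := fun x => (x.1 : G) * x.2
  have hf : Function.Injective f := by
    rintro ⟨a, b⟩ ⟨a', b'⟩ e
    obtain ⟨e1, e2⟩ := hu_uniq E a.2 a'.2 b.2 b'.2 e
    rw [Subtype.ext e1, Subtype.ext e2]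
  have hfs : Function.Surjective f := by
    apply (Nat.bijective_iff_injective_and_card f).2 ⟨hf, ?_⟩ |>.2
    rw [Nat.card_prod]; exact h3
  obtain ⟨x, hx, hxH⟩ := hA
  obtain ⟨⟨a, b⟩, e⟩ := hfs x
  apply hxH
  have e1 : (a : G) * b = x := e
  have h4 : (b : G) ∈ normalizer (H : Set G) := by
    have : (b : G) = (a : G)⁻¹ * x := by rw [← e1]; group
    rw [this]
    exact mul_mem (inv_mem (H_norm a.2)) hx
  have h5 := U_norm E b.2 h4
  rw [← e1, h5, mul_one]
  exact a.2

theorem block_val (E : Ext p H) (hcl : ∀ t ∈ H, t ≠ 1 → Cls (MM p H t)) {M : Ideal AlgInt}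
    (hM : IsPModular p M) {χ : IrrCharacter G} (hχ : χ ∈ principalBlock M G) {h u : G} (hh : h ∈ H1 H)
    (hu : u ∈ UU p H) : (χ : G → ℂ) (h * u) = (χ : G → ℂ) h := by
  obtain ⟨k, hk, m, hm, hcm, e⟩ := hu_form E hh.1 hu
  have hcf := isClassFunction_of_isIrr χ.2
  rw [e, ← classFunction_isConj hcf (isConj_iff.2 ⟨k, rfl⟩)]
  obtain ⟨N, hN, hNp, hmc, hmN⟩ := MM_core E hh.1 (hcl h hh.1 hh.2) ⟨hm, hcm⟩
  apply Cfsg.Agent.S0942.result p M hM h (pord E.pg hh.1) m _ χ hχ
  refine ⟨⟨m, hmc⟩, ?_, rfl⟩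
  refine H1.Cores.le_pPrimeCore hN ?_ hmN
  rw [Nat.coprime_comm]
  exact (Nat.Prime.coprime_iff_not_dvd hp.out).2 hNp

theorem orth {M : Ideal AlgInt} (hM : IsPModular p M) {g h : G} (hg : ¬ p ∣ orderOf g)
    (hh : ∃ k : ℕ, orderOf h = p ^ k) (hh1 : h ≠ 1) :
    ∑ᶠ χ ∈ principalBlock M G, (χ : G → ℂ) g * (χ : G → ℂ) h = 0 := by
  have h1 := H19.Second.block_orth (G := G) hM g h⁻¹ 1 h⁻¹
    ⟨g, one_mul g, Commute.one_left g, ⟨0, by rw [orderOf_one, pow_zero]⟩, hg⟩
    ⟨1, mul_one _, Commute.one_right _, by rw [orderOf_inv]; exact hh, by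
      rw [orderOf_one]; exact hp.out.one_lt.ne' ∘ Nat.dvd_one.1⟩
    (by
      intro hc
      rw [isConj_one_right] at hc
      exact hh1 (inv_eq_one.1 hc))
    (principalBlock M G) ⟨⟨_, isIrrCharacter_one⟩, rfl⟩
  rw [inv_inv] at h1
  exact h1

end main

end H37.EX1
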