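import Mathlib
import Cfsg.Agent.Lib.H37.EX4

set_option autoImplicit false
set_option linter.all false
set_option maxHeartbeats 1000000

/-! Extremely closed abelian `p`-subgroups: the contradiction (towards S3016). -/

namespace H37.EX1

open Subgroup H75.PH Cfsg H18.CharBasic H18.CharOrtho H18.CharInd
open scoped ComplexConjugate

universe u

section main

variable {G : Type u} [Group G] [Fintype G] {p : ℕ} [hp : Fact p.Prime] {H : Subgroup G}

theorem card_H1 : ((fs (H1 H)).card : ℂ) = (Nat.card H : ℂ) - 1 := by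
  have h1 := sum_H (H := H) (fun _ => (1 : ℂ))
  rw [Finset.sum_const, Finset.sum_const, nsmul_eq_mul, nsmul_eq_mul, mul_one, mul_one, card_fsH] at h1
  rw [h1]; ring

/-- numeric core -/
theorem numeric {ι : Type*} [Fintype ι] [DecidableEq ι] (B : ι → Prop) [DecidablePred B] (o : ι) (hoB : B o)
    (d : ι → ℝ) (k : ι → ℤ) (q : ℝ) (hq : 3 ≤ q) (hd : ∀ i, B i → 0 < d i) (hdo : d o = 1) (hko : k o = 1)
    (hb : ∀ i, B i → i ≠ o → (q - 1) * (k i : ℝ) ≤ d i)
    (h1 : ∑ i, (if B i then d i * (k i : ℝ) else 0) = 0)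
    (h2 : ∑ i, (if B i then (k i : ℝ) ^ 2 * ((q - 2) * d i - (q - 1) * (k i : ℝ)) / d i else 0) = 0) : False := by
  set f : ι → ℝ := fun i => if B i then (k i : ℝ) ^ 2 * ((q - 2) * d i - (q - 1) * (k i : ℝ)) / d i else 0 with hf
  have hfo : f o = -1 := by
    rw [hf]; simp only
    rw [if_pos hoB, hdo, hko]; push_cast; ring
  have hfe : ∀ i, B i → f i = (k i : ℝ) ^ 2 * ((q - 2) - (q - 1) * (k i : ℝ) / d i) := by
    intro i hi
    rw [hf]; simp only
    rw [if_pos hi]
    have := (hd i hi).ne'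
    field_simp
  have hnn : ∀ i, i ≠ o → 0 ≤ f i := by
    intro i hi
    by_cases hB : B i
    · rw [hfe i hB]
      apply mul_nonneg (sq_nonneg _)
      have h3 : (q - 1) * (k i : ℝ) / d i ≤ 1 := by
        rw [div_le_one (hd i hB)]; exact hb i hB hi
      linarith
    · rw [hf]; simp only
      rw [if_neg hB]
  have hsum : ∑ i ∈ Finset.univ.erase o, f i = 1 := by
    have h3 := Finset.add_sum_erase Finset.univ f (Finset.mem_univ o)
    rw [hfo] at h3
    have h4 : ∑ i, f i = 0 := h2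
    linarith
  have hk : ∀ i, B i → 0 ≤ k i := by
    intro i hi
    by_contra hneg
    push Not at hneg
    have hio : i ≠ o := by rintro rfl; rw [hko] at hneg; omega
    have h3 : f i ≤ ∑ i ∈ Finset.univ.erase o, f i :=
      Finset.single_le_sum (fun j hj => hnn j (Finset.ne_of_mem_erase hj))
        (Finset.mem_erase.2 ⟨hio, Finset.mem_univ i⟩)
    rw [hsum, hfe i hi] at h3
    have h4 : (k i : ℝ) ≤ -1 := by exact_mod_cast Int.le_sub_one_of_lt hneg
    have h5 : 1 ≤ (k i : ℝ) ^ 2 := by nlinarith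
    have h6 : (q - 1) * (k i : ℝ) / d i < 0 := by
      apply div_neg_of_neg_of_pos _ (hd i hi)
      nlinarith
    nlinarith
  have h3 : 0 < ∑ i, (if B i then d i * (k i : ℝ) else 0) := by
    apply Finset.sum_pos'
    · intro i _
      split_ifs with hB
      · have h4 : (0 : ℝ) ≤ (k i : ℝ) := by exact_mod_cast hk i hB
        exact mul_nonneg (hd i hB).le h4
      · exact le_refl _
    · refine ⟨o, Finset.mem_univ o, ?_⟩
      rw [if_pos hoB, hdo, hko]; norm_num
  rw [h1] at h3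
  exact lt_irrefl _ h3

theorem contra (E : Ext p H) (hcl : ∀ t ∈ H, t ≠ 1 → Cls (MM p H t)) (hodd : p ≠ 2) (hb : H ≠ ⊥)
    (htop : normalClosure (H : Set G) = ⊤) (hA : ∃ x ∈ normalizer (H : Set G), x ∉ H) : False := by
  classical
  letI := Fintype.ofFinite (IrrCharacter G)
  have hcard1 : Nat.card H ≠ 1 := fun h => hb (Subgroup.card_eq_one.1 h)
  have hq3 : 3 ≤ Nat.card H := by
    obtain ⟨n, hn⟩ := IsPGroup.iff_card.1 E.pg
    have hn0 : n ≠ 0 := by
      rintro rfl
      rw [pow_zero] at hn; exact hcard1 hn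
    have hp3 : 3 ≤ p := by
      have := hp.out.two_le
      omega
    rw [hn]
    exact hp3.trans (Nat.le_self_pow hn0 p)
  set q : ℂ := (Nat.card H : ℂ) with hq
  have hq1 : q - 1 ≠ 0 := by
    intro h
    apply hcard1
    have : (Nat.card H : ℂ) = 1 := by rw [← hq]; linear_combination h
    exact_mod_cast this
  -- an element of `H1`
  obtain ⟨h0, hh0, hh01⟩ : ∃ h ∈ H, h ≠ 1 := by
    by_contra hc
    push Not at hc
    exact hb ((Subgroup.eq_bot_iff_forall H).2 hc)
  have hh0' : h0 ∈ H1 H := ⟨hh0, hh01⟩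
  -- transitivity
  obtain ⟨χ1, hχ1, hω1, hx1⟩ := A6 E hcl hcard1 hA
  have htr : ∀ (χ : IrrCharacter G) (h : G), h ∈ H1 H → (χ : G → ℂ) h = (χ : G → ℂ) h0 := by
    intro χ h hh
    obtain ⟨a, ha, e⟩ := A5 E hcl χ1.2 (sum_ne htop hχ1) hx1 hω1 hh hh0'
    exact classFunction_isConj (isClassFunction_of_isIrr χ.2) (isConj_iff.2 ⟨a, e⟩)
  have hXX : ∀ χ : IrrCharacter G, XX H (χ : G → ℂ) 1 = (χ : G → ℂ) 1 + (q - 1) * (χ : G → ℂ) h0 := by
    intro χ
    rw [XX_one, sum_H, Finset.sum_congr rfl (fun h hh => htr χ h (mem_fs.1 hh)), Finset.sum_const,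
      nsmul_eq_mul, card_H1]
  -- integrality
  have hint : ∀ χ : IrrCharacter G, ∃ k : ℤ, (χ : G → ℂ) h0 = k := by
    intro χ
    obtain ⟨n, hn⟩ := exists_degree (isCharacter_of_isIrr χ.2)
    letI := Fintype.ofFinite H
    obtain ⟨m, hm⟩ := H20.BS.exists_nat_sum (isCharacter_of_isIrr χ.2) H
    have e1 : XX H (χ : G → ℂ) 1 = ∑ u : H, (χ : G → ℂ) u := by
      rw [XX_one]
      symm
      refine Finset.sum_bij (fun u _ => (u : G)) ?_ ?_ ?_ ?_
      · intro u _; exact mem_fs.2 u.2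
      · intro u _ v _ e; exact Subtype.ext e
      · intro b hb'; exact ⟨⟨b, mem_fs.1 hb'⟩, Finset.mem_univ _, rfl⟩
      · intro u _; rfl
    rw [hm, hXX χ, hn] at e1
    have e2 : (χ : G → ℂ) h0 = (((((Nat.card H : ℚ) * m - n) / ((Nat.card H : ℚ) - 1)) : ℚ) : ℂ) := by
      push_cast
      rw [eq_div_iff hq1]
      linear_combination e1
    have e3 := char_isIntegral (isCharacter_of_isIrr χ.2) h0
    rw [e2] at e3
    obtain ⟨k, hk⟩ := H4.Integral.exists_int_of_isIntegral_rat e3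
    refine ⟨k, ?_⟩
    rw [e2, hk]; norm_cast
  choose k hk using hint
  have hdeg : ∀ χ : IrrCharacter G, ∃ n : ℕ, 0 < n ∧ (χ : G → ℂ) 1 = n := fun χ => exists_degree_pos χ.2
  choose d hd0 hd using hdeg
  obtain ⟨M, hM⟩ := H78.Cong.exists_isPModular hp.out
  set NN : ℂ := (Nat.card (UU p H) : ℂ) with hNN
  have hNpos : 0 < Nat.card (UU p H) := by
    haveI : Nonempty (UU p H) := ⟨⟨1, one_mem_U E⟩⟩
    exact Nat.card_pos
  have hN0 : NN ≠ 0 := by rw [hNN]; exact_mod_cast hNpos.ne'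
  -- `om` on the principal block
  have hom : ∀ χ ∈ principalBlock M G, om p H (H1 H) (χ : G → ℂ) = NN * ((q - 1) * (k χ : ℂ)) / (d χ : ℂ) := by
    intro χ hχ
    unfold om
    rw [hd χ]
    congr 1
    have e1 : ∀ t ∈ fs (H1 H), ∑ u ∈ fs (UU p H), (χ : G → ℂ) (t * u) = NN * (k χ : ℂ) := by
      intro t ht
      rw [Finset.sum_congr rfl (fun u hu => block_val E hcl hM hχ (mem_fs.1 ht) (mem_fs.1 hu)),
        Finset.sum_const, nsmul_eq_mul, card_fs, htr χ t (mem_fs.1 ht), hk χ]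
    rw [Finset.sum_congr rfl e1, Finset.sum_const, nsmul_eq_mul, card_H1]
    ring
  have hFF : ∀ χ ∈ principalBlock M G, FF p H (χ : G → ℂ) 1 =
      -(NN * ((k χ : ℂ) * ((q - 2) * (d χ : ℂ) - (q - 1) * (k χ : ℂ)) / (d χ : ℂ))) := by
    intro χ hχ
    have h1 := A2' E hcl χ.2 1
    have hd' : (d χ : ℂ) ≠ 0 := by exact_mod_cast (hd0 χ).ne'
    rw [hom χ hχ, hXX χ, hd χ, hk χ, ← hq] at h1
    apply mul_left_cancel₀ hq1
    rw [h1]
    field_simp
    ring
  have hbound : ∀ χ ∈ principalBlock M G, χ ≠ tri G →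
      ((Nat.card H : ℝ) - 1) * (k χ : ℝ) ≤ (d χ : ℝ) := by
    intro χ hχ hne
    have h1 := A3 E hcl χ.2 hcard1 (sum_ne htop hne)
    rw [hom χ hχ] at h1
    have e1 : NN * ((q - 1) * (k χ : ℂ)) / (d χ : ℂ) =
        ((((Nat.card (UU p H) : ℝ) * (((Nat.card H : ℝ) - 1) * (k χ : ℝ)) / (d χ : ℝ)) : ℝ) : ℂ) := by
      rw [hNN, hq]; push_cast; ring
    rw [e1, Complex.norm_real, Real.norm_eq_abs] at h1
    have h2 := (le_abs_self _).trans h1
    have hd' : (0 : ℝ) < d χ := by exact_mod_cast hd0 χ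
    have hN' : (0 : ℝ) < Nat.card (UU p H) := by exact_mod_cast hNpos
    rw [div_le_iff₀ hd'] at h2
    exact le_of_mul_le_mul_left h2 hN'
  have ho : tri G ∈ principalBlock M G := by
    haveI := H20.Loc.pm_isPrime hM
    exact H20.Blk.mem_blockOf_self (tri G)
  have hh0p := pord E.pg hh0
  have hreg1 : ¬ p ∣ orderOf (1 : G) := by
    rw [orderOf_one]; exact hp.out.one_lt.ne' ∘ Nat.dvd_one.1
  -- relation 1
  have hR1 : ∑ χ : IrrCharacter G, (if χ ∈ principalBlock M G then ((d χ : ℕ) : ℝ) * (k χ : ℝ) else 0) = 0 := by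
    have h1 := orth (G := G) hM hreg1 hh0p hh01
    rw [H20.Orth.finsum_mem_eq_sum] at h1
    have h2 : (((∑ χ : IrrCharacter G, (if χ ∈ principalBlock M G then ((d χ : ℕ) : ℝ) * (k χ : ℝ) else 0) : ℝ)) : ℂ) = 0 := by
      rw [← h1, Complex.ofReal_sum]
      refine Finset.sum_congr rfl fun χ _ => ?_
      split_ifs with hB
      · rw [hd χ, hk χ]; push_cast; ring
      · norm_num
    exact_mod_cast h2
  -- relation 2
  have hR2 : ∑ χ : IrrCharacter G, (if χ ∈ principalBlock M G then (k χ : ℝ) ^ 2 *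
      (((Nat.card H : ℝ) - 2) * ((d χ : ℕ) : ℝ) - ((Nat.card H : ℝ) - 1) * (k χ : ℝ)) / ((d χ : ℕ) : ℝ) else 0) = 0 := by
    have h1 : ∀ u ∈ fs (UU p H), ∑ χ : IrrCharacter G,
        (if χ ∈ principalBlock M G then (χ : G → ℂ) (u * 1) * (χ : G → ℂ) h0 else 0) = 0 := by
      intro u hu
      have h2 := orth (G := G) hM (mem_fs.1 hu).1 hh0p hh01
      rw [H20.Orth.finsum_mem_eq_sum] at h2
      rw [mul_one]
      exact h2
    have h2 := Finset.sum_eq_zero h1
    rw [Finset.sum_comm] at h2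
    have h3 : (-NN) * (((∑ χ : IrrCharacter G, (if χ ∈ principalBlock M G then (k χ : ℝ) ^ 2 *
      (((Nat.card H : ℝ) - 2) * ((d χ : ℕ) : ℝ) - ((Nat.card H : ℝ) - 1) * (k χ : ℝ)) / ((d χ : ℕ) : ℝ) else 0) : ℝ)) : ℂ) = 0 := by
      rw [← h2, Complex.ofReal_sum, Finset.mul_sum]
      refine Finset.sum_congr rfl fun χ _ => ?_
      by_cases hB : χ ∈ principalBlock M G
      · simp only [if_pos hB]
        rw [← Finset.sum_mul]
        have h4 : ∑ u ∈ fs (UU p H), (χ : G → ℂ) (u * 1) = FF p H (χ : G → ℂ) 1 := rfl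
        rw [h4, hFF χ hB, hk χ]
        push_cast
        rw [← hq]
        ring
      · simp only [if_neg hB]
        simp
    have h4 := (mul_eq_zero.1 h3).resolve_left (neg_ne_zero.2 hN0)
    exact_mod_cast h4
  have hdo : ((d (tri G) : ℕ) : ℝ) = 1 := by
    have h1 := hd (tri G)
    rw [tri_apply] at h1
    exact_mod_cast h1.symm
  have hko : k (tri G) = 1 := by
    have h1 := hk (tri G)
    rw [tri_apply] at h1
    exact_mod_cast h1.symm
  exact numeric (fun χ : IrrCharacter G => χ ∈ principalBlock M G) (tri G) ho (fun χ => ((d χ : ℕ) : ℝ)) k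
    (Nat.card H : ℝ) (by exact_mod_cast hq3) (fun χ _ => by exact_mod_cast hd0 χ) hdo hko hbound hR1 hR2

end main

/-- the main induction -/
theorem good {p : ℕ} [hp : Fact p.Prime] (hodd : p ≠ 2) : ∀ (n : ℕ) (G : Type u) [Group G] [Finite G],
    Nat.card G = n → ∀ H : Subgroup G, Ext p H → Cls (UU p H) := by
  intro n
  induction n using Nat.strong_induction_on with
  | _ n ih =>
  intro G _ _ hn H E
  have hlt : ∀ L : Subgroup G, L ≠ ⊤ → Nat.card L < n := by
    intro L hL
    have := H75.PH.card_lt (lt_top_iff_ne_top.2 hL)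
    rwa [card_top, hn] at this
  by_cases hb : H = ⊥
  · intro u hu v hv
    have htop : normalizer ((⊥ : Subgroup G) : Set G) = ⊤ := Subgroup.normalizer_eq_top_iff.2 inferInstance
    have h1 : u = 1 := U_norm E hu (by rw [hb, htop]; trivial)
    rw [h1, one_mul]; exact hv
  by_cases htop : normalClosure (H : Set G) = ⊤
  swap
  · exact good_of_closure (ih _ (hlt _ htop) _ rfl _ (E.sub le_normalClosure))
  by_cases hz : ∃ z ∈ H, z ≠ 1 ∧ z ∈ center G
  · obtain ⟨z, hzH, hz1, hzc⟩ := hz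
    haveI hN : (zpowers z).Normal := by
      refine ⟨fun x hx g => ?_⟩
      have h1 : x ∈ center G := (zpowers_le.2 hzc) hx
      have h2 : g * x * g⁻¹ = x := by
        rw [mem_center_iff.1 h1 g, mul_inv_cancel_right]
      rw [h2]; exact hx
    have hNH : zpowers z ≤ H := zpowers_le.2 hzH
    refine good_of_quot (zpowers z) E hNH ?_ (ih _ ?_ _ rfl _ (Ext.quot (zpowers z) E hNH))
    · intro m hm g
      exact (mem_center_iff.1 ((zpowers_le.2 hzc) hm) g).symm
    · have h1 := Subgroup.card_eq_card_quotient_mul_card_subgroup (zpowers z)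
      have h3 : 1 < Nat.card (zpowers z) := by
        rw [Nat.card_zpowers]
        have h4 : orderOf z ≠ 1 := by rwa [Ne, orderOf_eq_one_iff]
        have h5 := orderOf_pos z
        omega
      have h4 : 0 < Nat.card (G ⧸ zpowers z) := Nat.card_pos
      rw [← hn, h1]
      nlinarith
  push Not at hz
  have hcl : ∀ t ∈ H, t ≠ 1 → Cls (MM p H t) := by
    intro t ht ht1
    have hCt : centralizer ({t} : Set G) ≠ ⊤ := by
      intro h
      apply hz t ht ht1
      rw [mem_center_iff]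
      intro g
      have : g ∈ centralizer ({t} : Set G) := by rw [h]; trivial
      exact mem_centralizer_singleton_iff.1 this
    have hHC : H ≤ centralizer ({t} : Set G) := by
      intro x hx
      rw [mem_centralizer_singleton_iff]
      exact E.ab x hx t ht
    exact MM_of_cent E ht (ih _ (hlt _ hCt) _ rfl _ (E.sub hHC))
  by_cases hA : ∀ x ∈ normalizer (H : Set G), x ∈ H
  · exact good_of_self E hA
  push Not at hA
  letI := Fintype.ofFinite G
  exact (contra E hcl hodd hb htop hA).elim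

/-- final form -/
theorem final {G : Type u} [Group G] [Finite G] {p : ℕ} [hp : Fact p.Prime] (hodd : p ≠ 2) (H : Subgroup G)
    (E : Ext p H) : normalClosure (H : Set G) ⊓ normalizer (H : Set G) = H ∧
      ∃ M : Subgroup G, M.Normal ∧ ¬ p ∣ Nat.card M ∧ normalizer (H : Set G) ⊔ M = ⊤ := by
  have hc := good hodd _ G rfl H E
  let M : Subgroup G :=
    { carrier := UU p H
      mul_mem' := fun {a b} ha hb => hc _ ha _ hb
      one_mem' := one_mem_U E
      inv_mem' := fun {a} ha => hc.inv (one_mem_U E) ha }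
  have hM : ∀ x, x ∈ M ↔ x ∈ UU p H := fun x => Iff.rfl
  have hdec : ∀ g : G, ∃ u ∈ M, ∃ a ∈ normalizer (H : Set G), g = u * a := by
    intro g
    obtain ⟨u, hu, hun⟩ := exists_u E g
    exact ⟨u, hu, _, hun, by group⟩
  have hMn : M.Normal := by
    refine ⟨fun x hx g => ?_⟩
    obtain ⟨u, hu, a, ha, rfl⟩ := hdec g
    have h1 : a * x * a⁻¹ ∈ M := U_conj E ha hx
    have e : u * a * x * (u * a)⁻¹ = u * (a * x * a⁻¹) * u⁻¹ := by group
    rw [e]
    exact M.mul_mem (M.mul_mem hu h1) (M.inv_mem hu)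
  refine ⟨?_, M, hMn, ?_, ?_⟩
  · apply le_antisymm
    · intro x hx
      obtain ⟨hx1, hx2⟩ := mem_inf.1 hx
      have hle : normalClosure (H : Set G) ≤ M ⊔ H := by
        haveI : (M ⊔ H).Normal := by
          refine ⟨fun y hy g => ?_⟩
          rw [← SetLike.mem_coe, Subgroup.normal_mul] at hy
          obtain ⟨m, hm, h, hh, rfl⟩ := Set.mem_mul.1 hy
          obtain ⟨u, hu, a, ha, rfl⟩ := hdec g
          have h1 : a * h * a⁻¹ ∈ H := (mem_normalizer_iff.1 ha h).1 hh
          have h2 : (u * a) * m * (u * a)⁻¹ ∈ M := hMn.conj_mem m hm (u * a)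
          have h3 : (a * h * a⁻¹)⁻¹ * (u * (a * h * a⁻¹) * u⁻¹) ∈ M := U_comm E h1 hu
          have e : u * a * (m * h) * (u * a)⁻¹ = ((u * a) * m * (u * a)⁻¹) *
              ((a * h * a⁻¹) * ((a * h * a⁻¹)⁻¹ * (u * (a * h * a⁻¹) * u⁻¹))) := by group
          rw [e]
          exact mul_mem ((le_sup_left : M ≤ M ⊔ H) h2)
            (mul_mem ((le_sup_right : H ≤ M ⊔ H) h1) ((le_sup_left : M ≤ M ⊔ H) h3))
        exact normalClosure_le_normal (fun y hy => (le_sup_right : H ≤ M ⊔ H) hy)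
      have h1 := hle hx1
      rw [← SetLike.mem_coe, Subgroup.normal_mul] at h1
      obtain ⟨m, hm, h, hh, e⟩ := Set.mem_mul.1 h1
      have h2 : m ∈ normalizer (H : Set G) := by
        have : m = x * h⁻¹ := by rw [← e]; group
        rw [this]
        exact mul_mem hx2 (inv_mem (H_norm hh))
      have h3 := U_norm E hm h2
      rw [← e, h3, one_mul]; exact hh
    · exact le_inf le_normalClosure le_normalizer
  · intro hd
    obtain ⟨x, hx⟩ := exists_prime_orderOf_dvd_card' (G := M) p hd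
    have h1 := ((hM _).1 x.2).1
    rw [Subgroup.orderOf_coe, hx] at h1
    exact h1 dvd_rfl
  · rw [eq_top_iff]
    intro g _
    obtain ⟨u, hu, a, ha, rfl⟩ := hdec g
    exact mul_mem ((le_sup_right : M ≤ _) hu) ((le_sup_left : normalizer (H : Set G) ≤ _) ha)

end H37.EX1
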