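import Mathlib
import Cfsg.Agent.Lib.H63.MinNormalFactor
import Cfsg.Agent.Lib.H1.Cyc

set_option autoImplicit false
set_option maxHeartbeats 1000000

/-!
Linear groups in characteristic two acting primitively on each orbit: point stabilizers of nonzero vectors are
maximal.
-/

namespace H37.ExtPrim

open Subgroup H63.MinNormalFactor

section general

variable {H : Type*} [Group H]

theorem mem_cj_of {g x : H} {T : Subgroup H} (hx : x ∈ T) : g * x * g⁻¹ ∈ cj g T := by
  rw [mem_cj]; simpa [mul_assoc] using hx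

theorem cj_one (T : Subgroup H) : cj 1 T = T := by
  ext x; rw [mem_cj]; simp

theorem cj_mul (g h : H) (T : Subgroup H) : cj (g * h) T = cj g (cj h T) := by
  ext x; rw [mem_cj, mem_cj, mem_cj]; simp [mul_assoc]

theorem cj_inf (g : H) (A B : Subgroup H) : cj g (A ⊓ B) = cj g A ⊓ cj g B := by
  ext x; rw [mem_cj, Subgroup.mem_inf, Subgroup.mem_inf, mem_cj, mem_cj]

theorem cj_sup (g : H) (A B : Subgroup H) : cj g (A ⊔ B) = cj g A ⊔ cj g B := Subgroup.map_sup _ _ _

theorem cj_mono {g : H} {A B : Subgroup H} (h : A ≤ B) : cj g A ≤ cj g B := Subgroup.map_mono h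

theorem cj_of_mem {g : H} {K : Subgroup H} (h : g ∈ K) : cj g K = K := by
  ext x
  rw [mem_cj]
  constructor
  · intro hx
    have := K.mul_mem (K.mul_mem h hx) (K.inv_mem h)
    simpa [mul_assoc] using this
  · intro hx
    exact K.mul_mem (K.mul_mem (K.inv_mem h) hx) h

theorem cj_normal {g : H} {K : Subgroup H} (hK : K.Normal) : cj g K = K := by
  ext x
  rw [mem_cj]
  constructor
  · intro hx
    have := hK.conj_mem _ hx g
    simpa [mul_assoc] using this
  · intro hx
    have := hK.conj_mem _ hx g⁻¹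
    simpa [mul_assoc] using this

theorem cj_normBy {N X : Subgroup H} (h : NormBy N X) {g : H} (hg : g ∈ N) : cj g X = X := by
  ext x
  rw [mem_cj]
  constructor
  · intro hx
    have := h g hg _ hx
    simpa [mul_assoc] using this
  · intro hx
    have := h g⁻¹ (N.inv_mem hg) _ hx
    simpa [mul_assoc] using this

theorem mem_normalizer_of_cj_le [Finite H] {Q : Subgroup H} {x : H} (h : cj x Q ≤ Q) : x ∈ normalizer (Q : Set H) := by
  have h1 : cj x Q = Q := Subgroup.eq_of_le_of_card_ge h (by rw [card_cj])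
  rw [Subgroup.mem_normalizer_iff]
  intro q
  constructor
  · intro hq
    rw [← h1]; exact mem_cj_of hq
  · intro hq
    have : x * q * x⁻¹ ∈ cj x Q := by rw [h1]; exact hq
    rw [mem_cj] at this
    simpa [mul_assoc] using this

end general

variable {H V : Type*} [Group H] [Finite H] [CommGroup V] [Finite V]

/-- stabilizer of a vector -/
def st (φ : H →* MulAut V) (v : V) : Subgroup H where
  carrier := {h | φ h v = v}
  mul_mem' := by
    intro a b ha hb
    show φ (a * b) v = v
    rw [map_mul, MulAut.mul_apply, show φ b v = v from hb, show φ a v = v from ha]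
  one_mem' := by
    show φ 1 v = v
    rw [map_one]; rfl
  inv_mem' := by
    intro a ha
    show φ a⁻¹ v = v
    rw [map_inv]
    nth_rewrite 1 [← (show φ a v = v from ha)]
    exact MulAut.inv_apply_self V (φ a) v

theorem mem_st {φ : H →* MulAut V} {v : V} {h : H} : h ∈ st φ v ↔ φ h v = v := Iff.rfl

/-- The standing hypotheses. -/
structure Setup (φ : H →* MulAut V) : Prop where
  inj : Function.Injective φ
  two : ∀ v : V, v * v = 1
  irr : ∀ W : Subgroup V, (∀ h : H, ∀ w ∈ W, φ h w ∈ W) → W = ⊥ ∨ W = ⊤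
  max : ∀ v : V, v ≠ 1 → IsCoatom (st φ v)

variable {φ : H →* MulAut V} (S : Setup φ)

include S

theorem not_le {K : Subgroup H} (hK : K.Normal) (hK1 : K ≠ ⊥) {v : V} (hv : v ≠ 1) : ¬ K ≤ st φ v := by
  intro hle
  let W : Subgroup V :=
    { carrier := {u | ∀ k ∈ K, φ k u = u}
      mul_mem' := by
        intro a b ha hb k hk
        rw [map_mul, ha k hk, hb k hk]
      one_mem' := by
        intro k hk
        rw [map_one]
      inv_mem' := by
        intro a ha k hk
        rw [map_inv, ha k hk] }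
  have hW : W = ⊥ ∨ W = ⊤ := by
    apply S.irr
    intro h w hw k hk
    have h1 : φ k (φ h w) = φ h (φ (h⁻¹ * k * h) w) := by
      rw [← MulAut.mul_apply, ← MulAut.mul_apply, ← map_mul, ← map_mul]
      congr 2
      group
    rw [h1, hw _ (by simpa using hK.conj_mem k hk h⁻¹)]
  rcases hW with hW | hW
  · apply hv
    have : v ∈ W := fun k hk => hle hk
    rw [hW, mem_bot] at this
    exact this
  · apply hK1
    rw [eq_bot_iff]
    intro k hk
    rw [mem_bot]
    apply S.inj
    rw [map_one]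
    ext u
    have : u ∈ W := by rw [hW]; exact mem_top u
    exact this k hk

theorem sup_st {K : Subgroup H} (hK : K.Normal) (hK1 : K ≠ ⊥) {v : V} (hv : v ≠ 1) : K ⊔ st φ v = ⊤ := by
  apply (S.max v hv).2
  apply lt_of_le_of_ne le_sup_right
  intro h
  exact not_le S hK hK1 hv (by rw [h]; exact le_sup_left)

theorem exists_mul_st {K : Subgroup H} (hK : K.Normal) (hK1 : K ≠ ⊥) {v : V} (hv : v ≠ 1) (h : H) :
    ∃ k ∈ K, ∃ s ∈ st φ v, h = k * s := by
  have h1 : h ∈ K ⊔ st φ v := by rw [sup_st S hK hK1 hv]; exact mem_top h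
  rw [← SetLike.mem_coe, Subgroup.normal_mul] at h1
  obtain ⟨k, hk, s, hs, e⟩ := h1
  exact ⟨k, hk, s, hs, e.symm⟩

theorem exists_st_mul {K : Subgroup H} (hK : K.Normal) (hK1 : K ≠ ⊥) {v : V} (hv : v ≠ 1) (h : H) :
    ∃ s ∈ st φ v, ∃ k ∈ K, h = s * k := by
  obtain ⟨k, hk, s, hs, e⟩ := exists_mul_st S hK hK1 hv h⁻¹
  refine ⟨s⁻¹, inv_mem hs, k⁻¹, inv_mem hk, ?_⟩
  rw [← mul_inv_rev, ← e, inv_inv]

/-- an involution fixes a nontrivial vector -/
theorem exists_fixed [Nontrivial V] {t : H} (ht : t * t = 1) : ∃ v : V, v ≠ 1 ∧ t ∈ st φ v := by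
  obtain ⟨v, hv⟩ := exists_ne (1 : V)
  by_cases h : v * φ t v = 1
  · refine ⟨v, hv, ?_⟩
    rw [mem_st]
    have h1 : φ t v = v⁻¹ := (eq_inv_of_mul_eq_one_right h)
    rw [h1]
    exact inv_eq_of_mul_eq_one_left (S.two v)
  · refine ⟨v * φ t v, h, ?_⟩
    rw [mem_st, map_mul, ← MulAut.mul_apply, ← map_mul, ht, map_one, MulAut.one_apply, mul_comm]

end H37.ExtPrim
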