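import Mathlib
import Cfsg.Agent.Lib.H37.ExtPrim

set_option autoImplicit false
set_option maxHeartbeats 1000000

/-!
Linear groups in characteristic two acting primitively on each orbit: the socle.
-/

namespace H37.ExtPrim

open Subgroup H63.MinNormalFactor

variable {H V : Type*} [Group H] [Finite H] [CommGroup V] [Finite V]

/-- nonabelian minimal normal subgroup `M` with simple factor `T`. -/
structure Soc (M T : Subgroup H) : Prop where
  nor : M.Normal
  min : ∀ K : Subgroup H, K.Normal → K ≤ M → K ≠ ⊥ → K = M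
  ne : M ≠ ⊥
  nc : ¬ ∀ a ∈ M, ∀ b ∈ M, a * b = b * a
  fac : Factor M T

theorem Soc.cj {M T : Subgroup H} (h : Soc M T) (g : H) : Factor M (cj g T) where
  le := cj_le h.nor h.fac g
  ne := cj_ne_bot h.fac.ne
  norm := by have := h.nor; exact h.fac.norm.cj g
  min := by
    intro S hS hS1 hSn
    have := h.nor
    have h1 : H63.MinNormalFactor.cj g⁻¹ S = T := by
      apply h.fac.min
      · have := cj_mono (g := g⁻¹) hS
        rwa [← cj_mul, inv_mul_cancel, cj_one] at this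
      · exact cj_ne_bot hS1
      · exact hSn.cj g⁻¹
    rw [← h1, ← cj_mul, mul_inv_cancel, cj_one]

variable {φ : H →* MulAut V} {M T : Subgroup H}

theorem soc_card_even (C : Soc M T) (hev : ∀ X : Subgroup H, Factor M X → 2 ∣ Nat.card X) {X : Subgroup H}
    (hX : Factor M X) : ∃ t ∈ X, t * t = 1 ∧ t ≠ 1 := by
  have : Fact (Nat.Prime 2) := ⟨Nat.prime_two⟩
  obtain ⟨t, ht⟩ := exists_prime_orderOf_dvd_card' 2 (hev X hX)
  refine ⟨t, t.2, ?_, ?_⟩
  · have := pow_orderOf_eq_one t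
    rw [ht, pow_two] at this
    exact congrArg Subtype.val this
  · intro h
    have h1 : t = 1 := Subtype.ext h
    rw [h1, orderOf_one] at ht
    exact absurd ht (by norm_num)

/-- an involution of `X` outside a given subgroup not containing `X` -/
theorem exists_inv_not_mem (C : Soc M T) (hev : ∀ X : Subgroup H, Factor M X → 2 ∣ Nat.card X) {X : Subgroup H}
    (hX : Factor M X) {K : Subgroup H} (hK : ¬ X ≤ K) : ∃ t ∈ X, t * t = 1 ∧ t ≠ 1 ∧ t ∉ K := by
  by_contra hcon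
  push Not at hcon
  apply hK
  let S := Subgroup.closure {t : H | t ∈ X ∧ t * t = 1}
  have hSK : S ≤ K := by
    rw [Subgroup.closure_le]
    rintro t ⟨ht, ht2⟩
    by_cases h1 : t = 1
    · rw [h1]; exact K.one_mem
    · exact hcon t ht ht2 h1
  have hSX : S ≤ X := by
    rw [Subgroup.closure_le]
    rintro t ⟨ht, -⟩
    exact ht
  have hS1 : S ≠ ⊥ := by
    obtain ⟨t, ht, ht2, ht1⟩ := soc_card_even C hev hX
    intro h
    apply ht1
    have : t ∈ S := Subgroup.subset_closure ⟨ht, ht2⟩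
    rw [h, mem_bot] at this
    exact this
  have hn : NormBy X S := by
    intro x hx s hs
    have h1 : H63.MinNormalFactor.cj x S ≤ S := by
      unfold H63.MinNormalFactor.cj
      show Subgroup.map _ (Subgroup.closure _) ≤ _
      rw [MonoidHom.map_closure, Subgroup.closure_le]
      rintro _ ⟨t, ⟨ht, ht2⟩, rfl⟩
      apply Subgroup.subset_closure
      show x * t * x⁻¹ ∈ X ∧ x * t * x⁻¹ * (x * t * x⁻¹) = 1
      refine ⟨X.mul_mem (X.mul_mem hx ht) (X.inv_mem hx), ?_⟩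
      have : x * t * x⁻¹ * (x * t * x⁻¹) = x * (t * t) * x⁻¹ := by group
      rw [this, ht2]; group
    exact h1 (mem_cj_of hs)
  have := T_simple C.nor C.min hX hSX hS1 hn
  rw [← this]
  exact hSK

theorem comm_of_ne (C : Soc M T) {g g' : H} (h : cj g' T ≠ cj g T) :
    ∀ a ∈ cj g' T, ∀ b ∈ cj g T, a * b = b * a := by
  intro a ha b hb
  have hne : cj (g⁻¹ * g') T ≠ T := by
    intro h2
    apply h
    rw [cj_mul] at h2
    have h3 := congrArg (H63.MinNormalFactor.cj g) h2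
    rw [← cj_mul, mul_inv_cancel, cj_one] at h3
    exact h3
  have h1 : g⁻¹ * a * g ∈ cj (g⁻¹ * g') T := by
    rw [cj_mul]
    have := mem_cj_of (g := g⁻¹) ha
    simpa using this
  have h2 := cj_comm C.nor C.fac hne _ h1 _ (mem_cj.mp hb)
  have e := congrArg (fun y => g * y * g⁻¹) h2
  simpa [mul_assoc] using e

variable (S : Setup φ) (C : Soc M T)

include S C

theorem cj_T_eq {v : V} (hv : v ≠ 1) (g : H) : ∃ s ∈ st φ v, cj g T = cj s T := by
  obtain ⟨s, hs, k, hk, rfl⟩ := exists_st_mul S C.nor C.ne hv g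
  refine ⟨s, hs, ?_⟩
  rw [cj_mul, cj_normBy C.fac.norm hk]

theorem cj_inf_st {v : V} {s : H} (hs : s ∈ st φ v) (X : Subgroup H) : cj s (X ⊓ st φ v) = cj s X ⊓ st φ v := by
  rw [cj_inf, cj_of_mem hs]

theorem card_R {v : V} (hv : v ≠ 1) (g : H) :
    Nat.card ↥(cj g T ⊓ st φ v) = Nat.card ↥(T ⊓ st φ v) := by
  obtain ⟨s, hs, h⟩ := cj_T_eq S C hv g
  rw [h, ← cj_inf_st S C hs, card_cj]

theorem R_eq_bot_iff {v : V} (hv : v ≠ 1) (g : H) : cj g T ⊓ st φ v = ⊥ ↔ T ⊓ st φ v = ⊥ := by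
  rw [← Subgroup.card_eq_one, ← Subgroup.card_eq_one, card_R S C hv]

theorem T_not_le {v : V} (hv : v ≠ 1) (g : H) : ¬ cj g T ≤ st φ v := by
  intro h
  have h0 : ∀ g', cj g' T ≤ st φ v := by
    obtain ⟨s, hs, e⟩ := cj_T_eq S C hv g
    have hT : T ≤ st φ v := by
      have h1 := cj_mono (g := s⁻¹) h
      rwa [e, ← cj_mul, inv_mul_cancel, cj_one, cj_of_mem (inv_mem hs)] at h1
    intro g'
    obtain ⟨s', hs', e'⟩ := cj_T_eq S C hv g'
    rw [e']
    have := cj_mono (g := s') hT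
    rwa [cj_of_mem hs'] at this
  apply not_le S C.nor C.ne hv
  rw [← iSup_cj C.nor C.min C.fac]
  exact iSup_le h0

/-- The key maximality argument. -/
theorem mem_st_of_norm {v : V} (hv : v ≠ 1) (hR : T ⊓ st φ v ≠ ⊥) {x : H}
    (hx : ∀ g : H, ∀ s ∈ cj g T ⊓ st φ v, ∃ g' : H, x * s * x⁻¹ ∈ cj g' T ⊓ st φ v) : x ∈ st φ v := by
  let Q : Subgroup H := ⨆ g : H, (cj g T ⊓ st φ v)
  have hQ : Q ≤ st φ v := iSup_le (fun g => inf_le_right)
  have hQ1 : Q ≠ ⊥ := by
    intro h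
    apply hR
    rw [eq_bot_iff, ← h]
    refine le_trans ?_ (le_iSup _ (1 : H))
    rw [cj_one]
  have hN : ∀ y : H, (∀ g : H, ∀ s ∈ cj g T ⊓ st φ v, ∃ g' : H, y * s * y⁻¹ ∈ cj g' T ⊓ st φ v) →
      y ∈ normalizer (Q : Set H) := by
    intro y hy
    apply mem_normalizer_of_cj_le
    unfold H63.MinNormalFactor.cj
    show Subgroup.map _ (iSup _) ≤ _
    rw [Subgroup.map_iSup]
    apply iSup_le
    rintro g _ ⟨s, hs, rfl⟩
    obtain ⟨g', hg'⟩ := hy g s hs
    exact (le_iSup (fun g => cj g T ⊓ st φ v) g') hg'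
  have h1 : st φ v ≤ normalizer (Q : Set H) := by
    intro s hs
    apply hN
    intro g r hr
    refine ⟨s * g, ?_⟩
    rw [cj_mul, ← cj_inf_st S C hs]
    exact mem_cj_of hr
  have h2 : normalizer (Q : Set H) = st φ v := by
    by_contra hne
    have h3 : normalizer (Q : Set H) = ⊤ := (S.max v hv).2 _ (lt_of_le_of_ne h1 (Ne.symm hne))
    exact not_le S (Subgroup.normalizer_eq_top_iff.mp h3) hQ1 hv hQ
  rw [← h2]
  exact hN x hx

/-- product type -/
theorem prodType {v : V} (hv : v ≠ 1) (hR : T ⊓ st φ v ≠ ⊥) (g : H) {x c : H} (hx : x ∈ cj g T)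
    (hc : ∀ t ∈ cj g T, t * c = c * t) (hm : x * c ∈ st φ v) : x ∈ st φ v := by
  apply mem_st_of_norm S C hv hR
  intro g' s hs
  rw [Subgroup.mem_inf] at hs
  refine ⟨g', ?_⟩
  rw [Subgroup.mem_inf]
  by_cases h : cj g' T = cj g T
  · rw [h] at hs ⊢
    refine ⟨(cj g T).mul_mem ((cj g T).mul_mem hx hs.1) ((cj g T).inv_mem hx), ?_⟩
    have h1 : x * s * x⁻¹ = (x * c) * s * (x * c)⁻¹ := by
      have := hc s hs.1
      calc x * s * x⁻¹ = x * (s * c) * c⁻¹ * x⁻¹ := by group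
        _ = x * (c * s) * c⁻¹ * x⁻¹ := by rw [this]
        _ = _ := by group
    rw [h1]
    exact (st φ v).mul_mem ((st φ v).mul_mem hm hs.2) ((st φ v).inv_mem hm)
  · have h1 : x * s = s * x := (comm_of_ne C h s hs.1 x hx).symm
    have h2 : x * s * x⁻¹ = s := by rw [h1, mul_inv_cancel_right]
    rw [h2]
    exact hs

end H37.ExtPrim
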