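import Mathlib
import Cfsg.Agent.Lib.H37.ExtPrim2

set_option autoImplicit false
set_option maxHeartbeats 1000000

/-!
Linear groups in characteristic two acting primitively on each orbit: two commuting simple factors are impossible.
-/

namespace H37.ExtPrim

open Subgroup H63.MinNormalFactor

variable {H V : Type*} [Group H] [Finite H] [CommGroup V] [Finite V]
variable {φ : H →* MulAut V} {M T : Subgroup H}

theorem mulφ (φ : H →* MulAut V) (a b : H) (v : V) : φ (a * b) v = φ a (φ b v) := by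
  rw [map_mul, MulAut.mul_apply]

theorem inv_eq_self' (S : Setup φ) (v : V) : v⁻¹ = v := inv_eq_of_mul_eq_one_left (S.two v)

theorem eq_of_mul_eq_one' (S : Setup φ) {u v : V} (h : u * v = 1) : v = u := by
  rw [← inv_eq_self' S u]
  exact (eq_inv_of_mul_eq_one_right h)

/-- step one: existence of a vector of diagonal type. -/
theorem step_one [Nontrivial V] (S : Setup φ) (C : Soc M T)
    (hev : ∀ X : Subgroup H, Factor M X → 2 ∣ Nat.card X) {g₀ : H} (hg₀ : cj g₀ T ≠ T) :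
    (∀ g : H, cj g T = T ∨ cj g T = cj g₀ T) ∧
    ∃ w : V, w ≠ 1 ∧ T ⊓ st φ w = ⊥ ∧ ∃ t₁ ∈ T, ∃ t₂ ∈ cj g₀ T, t₁ ≠ 1 ∧ t₁ * t₂ ∈ st φ w := by
  -- choose `v` with maximal intersection
  have hfin : Finite {v : V // v ≠ 1} := inferInstance
  obtain ⟨v₁, hv₁⟩ := exists_ne (1 : V)
  have hne : Nonempty {v : V // v ≠ 1} := ⟨⟨v₁, hv₁⟩⟩
  obtain ⟨⟨v, hv⟩, hmax⟩ := Finite.exists_max (fun v : {v : V // v ≠ 1} => Nat.card ↥(T ⊓ st φ v.1))
  have hmax' : ∀ u : V, u ≠ 1 → Nat.card ↥(T ⊓ st φ u) ≤ Nat.card ↥(T ⊓ st φ v) := fun u hu => hmax ⟨u, hu⟩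
  have hT1 : Factor M T := C.fac
  have hR : T ⊓ st φ v ≠ ⊥ := by
    obtain ⟨t, ht, ht2, ht1⟩ := soc_card_even C hev C.fac
    obtain ⟨v₀, hv₀, hv₀'⟩ := exists_fixed S ht2
    have h1 : T ⊓ st φ v₀ ≠ ⊥ := by
      intro h
      apply ht1
      have : t ∈ T ⊓ st φ v₀ := Subgroup.mem_inf.mpr ⟨ht, hv₀'⟩
      rw [h, mem_bot] at this
      exact this
    intro h
    apply h1
    rw [← Subgroup.card_eq_one]
    have h2 := hmax' v₀ hv₀
    rw [h, Subgroup.card_bot] at h2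
    have h3 : 0 < Nat.card ↥(T ⊓ st φ v₀) := Nat.card_pos
    omega
  have e1 : cj (1 : H) T = T := cj_one T
  obtain ⟨t₁, ht₁, ht₁2, ht₁1, ht₁v⟩ := exists_inv_not_mem C hev C.fac
    (K := st φ v) (by have := T_not_le S C hv 1; rwa [e1] at this)
  obtain ⟨t₂, ht₂, ht₂2, ht₂1, ht₂v⟩ := exists_inv_not_mem C hev (C.cj g₀) (K := st φ v) (T_not_le S C hv g₀)
  have hcomm : ∀ a ∈ T, ∀ b ∈ cj g₀ T, a * b = b * a := fun a ha b hb =>
    (cj_comm C.nor C.fac hg₀ b hb a ha).symm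
  have h12 : t₁ * t₂ = t₂ * t₁ := hcomm t₁ ht₁ t₂ ht₂
  -- involution product
  have hinv : (t₁ * t₂) * (t₁ * t₂) = 1 := by
    calc (t₁ * t₂) * (t₁ * t₂) = t₁ * (t₂ * t₁) * t₂ := by group
      _ = t₁ * (t₁ * t₂) * t₂ := by rw [h12]
      _ = (t₁ * t₁) * (t₂ * t₂) := by group
      _ = 1 := by rw [ht₁2, ht₂2, one_mul]
  obtain ⟨w, hw⟩ : ∃ w, w = v * φ (t₁ * t₂) v := ⟨_, rfl⟩
  have hw1 : w ≠ 1 := by
    intro h
    apply ht₁v
    have h1 : φ (t₁ * t₂) v = v := eq_of_mul_eq_one' S (hw.symm.trans h)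
    apply prodType S C hv hR 1 (x := t₁) (c := t₂)
    · rw [e1]; exact ht₁
    · rw [e1]; intro t ht; exact hcomm t ht t₂ ht₂
    · exact h1
  have hws : t₁ * t₂ ∈ st φ w := by
    rw [mem_st, hw, map_mul, ← mulφ, hinv, map_one, MulAut.one_apply, mul_comm]
  -- `w` is not of product type
  have hwT : T ⊓ st φ w = ⊥ := by
    by_contra hcon
    have h1 : t₁ ∈ st φ w := by
      apply prodType S C hw1 hcon 1 (x := t₁) (c := t₂)
      · rw [e1]; exact ht₁
      · rw [e1]; intro t ht; exact hcomm t ht t₂ ht₂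
      · exact hws
    have h2 : φ t₁ v * φ t₂ v = v * φ (t₁ * t₂) v := by
      have h3 : φ t₁ w = w := h1
      rw [hw, map_mul, ← mulφ, ← mul_assoc, ht₁2, one_mul] at h3
      exact h3
    obtain ⟨u, hu⟩ : ∃ u, u = v * φ t₁ v := ⟨_, rfl⟩
    have hu1 : u ≠ 1 := by
      intro h
      apply ht₁v
      exact eq_of_mul_eq_one' S (hu.symm.trans h)
    have hu2 : t₂ ∈ st φ u := by
      rw [mem_st]
      apply eq_of_mul_eq_one' S
      rw [hu, map_mul, ← mulφ, ← h12]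
      calc v * φ t₁ v * (φ t₂ v * φ (t₁ * t₂) v) = (v * φ (t₁ * t₂) v) * (φ t₁ v * φ t₂ v) := by
            simp only [mul_comm, mul_left_comm]
        _ = (v * φ (t₁ * t₂) v) * (v * φ (t₁ * t₂) v) := by rw [h2]
        _ = 1 := S.two _
    have h3 : cj g₀ T ⊓ st φ v < cj g₀ T ⊓ st φ u := by
      apply lt_of_le_of_ne
      · intro y hy
        rw [Subgroup.mem_inf] at hy ⊢
        refine ⟨hy.1, ?_⟩
        have h4 : φ y v = v := hy.2
        rw [mem_st, hu, map_mul, h4, ← mulφ, ← hcomm t₁ ht₁ y hy.1, mulφ, h4]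
      · intro h
        apply ht₂v
        have : t₂ ∈ cj g₀ T ⊓ st φ v := by rw [h]; exact Subgroup.mem_inf.mpr ⟨ht₂, hu2⟩
        exact (Subgroup.mem_inf.mp this).2
    have h4 : Nat.card ↥(cj g₀ T ⊓ st φ v) < Nat.card ↥(cj g₀ T ⊓ st φ u) := by
      by_contra hcard
      exact h3.ne (Subgroup.eq_of_le_of_card_ge h3.le (not_lt.mp hcard))
    rw [card_R S C hv, card_R S C hu1] at h4
    exact absurd (hmax' u hu1) (_root_.not_le.mpr h4)
  refine ⟨?_, w, hw1, hwT, t₁, ht₁, t₂, ht₂, ht₁1, hws⟩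
  -- at most two factors
  intro g
  by_contra hcon
  push Not at hcon
  obtain ⟨hg1, hg2⟩ := hcon
  have hZ : cj g T ⊓ st φ v ≠ ⊥ := by
    rw [Ne, R_eq_bot_iff S C hv]; exact hR
  apply hZ
  rw [eq_bot_iff]
  intro z hz
  rw [Subgroup.mem_inf] at hz
  have hz1 : t₁ * z = z * t₁ := (cj_comm C.nor C.fac hg1 z hz.1 t₁ ht₁).symm
  have hz2 : t₂ * z = z * t₂ := (comm_of_ne C hg2 z hz.1 t₂ ht₂).symm
  have h1 : z ∈ cj g T ⊓ st φ w := by
    refine Subgroup.mem_inf.mpr ⟨hz.1, ?_⟩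
    have h4 : φ z v = v := hz.2
    have h5 : z * (t₁ * t₂) = t₁ * t₂ * z := by
      calc z * (t₁ * t₂) = (z * t₁) * t₂ := by group
        _ = t₁ * (z * t₂) := by rw [← hz1]; group
        _ = _ := by rw [← hz2]; group
    rw [mem_st, hw, map_mul, h4, ← mulφ, h5, mulφ, h4]
  rw [(R_eq_bot_iff S C hw1 g).mpr hwT, mem_bot] at h1
  exact mem_bot.mpr h1

theorem cj_inj {s : H} {A B : Subgroup H} (h : cj s A = cj s B) : A = B := by
  have h6 := congrArg (cj s⁻¹) h
  rwa [← cj_mul, ← cj_mul, inv_mul_cancel, cj_one, cj_one] at h6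

/-- step two: the diagonal is full. -/
theorem step_two (S : Setup φ) (C : Soc M T) {g₀ : H} (hg₀ : cj g₀ T ≠ T)
    (hall : ∀ g : H, cj g T = T ∨ cj g T = cj g₀ T) {w : V} (hw1 : w ≠ 1) (hwT : T ⊓ st φ w = ⊥)
    {t₁ t₂ : H} (ht₁ : t₁ ∈ T) (ht₂ : t₂ ∈ cj g₀ T) (ht₁1 : t₁ ≠ 1) (ht : t₁ * t₂ ∈ st φ w) :
    ∀ a ∈ T, ∃ b ∈ cj g₀ T, a * b ∈ st φ w := by
  have hYM : cj g₀ T ≤ M := cj_le C.nor C.fac g₀
  have hTM : T ≤ M := C.fac.le
  have hMn := C.nor
  set D := M ⊓ st φ w with hD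
  set Y := cj g₀ T with hY
  obtain ⟨P, hP⟩ : ∃ P, P = (D ⊔ Y) ⊓ (D ⊔ T) := ⟨_, rfl⟩
  have hDP : D ≤ P := by rw [hP]; exact le_inf le_sup_left le_sup_left
  have hcjP : ∀ s ∈ st φ w, cj s P = P := by
    intro s hs
    have h1 : cj s D = D := by
      rw [hD, cj_inf, cj_normal C.nor, cj_of_mem hs]
    have h2 : cj s Y = cj (s * g₀) T := by rw [cj_mul]
    rw [hP, cj_inf, cj_sup, cj_sup, h1]
    rcases hall s with h3 | h3
    · rw [h3]
      rcases hall (s * g₀) with h4 | h4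
      · exfalso
        apply hg₀
        have h5 : cj s Y = cj s T := by rw [h2, h4, h3]
        exact cj_inj h5
      · rw [h2, h4]
    · rw [h3]
      rcases hall (s * g₀) with h4 | h4
      · rw [h2, h4, inf_comm]
      · exfalso
        apply hg₀
        have h5 : cj s Y = cj s T := by rw [h2, h4, h3]
        exact cj_inj h5
  have hst : st φ w ≤ normalizer (P : Set H) := by
    intro s hs
    exact mem_normalizer_of_cj_le (hcjP s hs).le
  have hPnot : ¬ P ≤ st φ w := by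
    intro h
    apply ht₁1
    have h1 : t₁ ∈ P := by
      rw [hP]
      refine Subgroup.mem_inf.mpr ⟨?_, (le_sup_right : T ≤ D ⊔ T) ht₁⟩
      have h2 : t₁ = (t₁ * t₂) * t₂⁻¹ := by group
      rw [h2]
      refine (D ⊔ Y).mul_mem ((le_sup_left : D ≤ D ⊔ Y) ?_) ((D ⊔ Y).inv_mem ((le_sup_right : Y ≤ D ⊔ Y) ht₂))
      exact Subgroup.mem_inf.mpr ⟨M.mul_mem (hTM ht₁) (hYM ht₂), ht⟩
    have : t₁ ∈ T ⊓ st φ w := Subgroup.mem_inf.mpr ⟨ht₁, h h1⟩
    rw [hwT, mem_bot] at this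
    exact this
  have htop : P ⊔ st φ w = ⊤ := by
    apply (S.max w hw1).2
    apply lt_of_le_of_ne le_sup_right
    intro h
    exact hPnot (by rw [h]; exact le_sup_left)
  intro a ha
  have h1 : a ∈ P ⊔ st φ w := by rw [htop]; exact mem_top a
  rw [← SetLike.mem_coe, Subgroup.coe_mul_of_right_le_normalizer_left P (st φ w) hst] at h1
  obtain ⟨q, hq, s, hs, rfl⟩ := h1
  have hPM : P ≤ M := by
    rw [hP]
    exact inf_le_right.trans (sup_le inf_le_left hTM)
  have hsM : s ∈ M := by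
    have := M.mul_mem (M.inv_mem (hPM hq)) (hTM ha)
    simpa using this
  have hsD : s ∈ D := Subgroup.mem_inf.mpr ⟨hsM, hs⟩
  have hqs : q * s ∈ D ⊔ Y := by
    have h2 : q * s ∈ P := P.mul_mem hq (hDP hsD)
    rw [hP] at h2
    exact (Subgroup.mem_inf.mp h2).1
  have hDY : D ≤ normalizer (Y : Set H) := by
    intro d hd
    apply mem_normalizer_of_cj_le
    rw [cj_normBy (C.cj g₀).norm (Subgroup.mem_inf.mp hd).1]
  rw [← SetLike.mem_coe, Subgroup.coe_mul_of_left_le_normalizer_right D Y hDY] at hqs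
  obtain ⟨d, hd, y, hy, e⟩ := hqs
  refine ⟨y⁻¹, inv_mem hy, ?_⟩
  have h3 : (fun x1 x2 => x1 * x2) q s * y⁻¹ = d := by
    show q * s * y⁻¹ = d
    rw [← e]
    show d * y * y⁻¹ = d
    group
  rw [h3]
  exact (Subgroup.mem_inf.mp hd).2

/-- step three: contradiction. -/
theorem step_three (S : Setup φ) (C : Soc M T) (hev : ∀ X : Subgroup H, Factor M X → 2 ∣ Nat.card X)
    {g₀ : H} (hg₀ : cj g₀ T ≠ T) {w : V} (hw1 : w ≠ 1) (hwT : T ⊓ st φ w = ⊥)
    (hd : ∀ a ∈ T, ∃ b ∈ cj g₀ T, a * b ∈ st φ w) : False := by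
  have e1 : cj (1 : H) T = T := cj_one T
  have hcomm : ∀ a ∈ T, ∀ b ∈ cj g₀ T, a * b = b * a := fun a ha b hb =>
    (cj_comm C.nor C.fac hg₀ b hb a ha).symm
  have hwY : cj g₀ T ⊓ st φ w = ⊥ := (R_eq_bot_iff S C hw1 g₀).mpr hwT
  have hT0 : ∀ a ∈ T, a ∈ st φ w → a = 1 := by
    intro a ha haw
    have : a ∈ T ⊓ st φ w := Subgroup.mem_inf.mpr ⟨ha, haw⟩
    rwa [hwT, mem_bot] at this
  -- action of the partner
  have hbar : ∀ a ∈ T, ∀ b ∈ cj g₀ T, a * b ∈ st φ w → φ b w = φ a⁻¹ w := by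
    intro a ha b hb hab
    have h1 : φ a (φ b w) = w := by rw [← mulφ]; exact hab
    have h2 := congrArg (φ a⁻¹) h1
    rwa [← mulφ, inv_mul_cancel, map_one, MulAut.one_apply] at h2
  -- product type criterion: `u_c` fixed by a nontrivial element of `T`
  have hu : ∀ c : H, c ∈ T → w * φ c w = 1 → c = 1 := by
    intro c hc h
    exact hT0 c hc (eq_of_mul_eq_one' S h)
  have hdiag : ∀ c ∈ T, ∀ g ∈ T, g * c = c * g → ∀ b ∈ cj g₀ T, g * b ∈ st φ w → g * b ∈ st φ (w * φ c w) := by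
    intro c hc g hg hgc b hb hgb
    have h1 : φ (g * b) w = w := hgb
    have h2 : g * b * c = c * (g * b) := by
      calc g * b * c = g * (b * c) := by group
        _ = g * (c * b) := by rw [hcomm c hc b hb]
        _ = (g * c) * b := by group
        _ = _ := by rw [hgc]; group
    rw [mem_st, map_mul, h1, ← mulφ, h2, mulφ, h1]
  have hprod : ∀ c ∈ T, c ≠ 1 → T ⊓ st φ (w * φ c w) ≠ ⊥ → ∀ g ∈ T, g * c = c * g → g ∈ st φ (w * φ c w) := by
    intro c hc hc1 hR g hg hgc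
    obtain ⟨b, hb, hgb⟩ := hd g hg
    have hne : w * φ c w ≠ 1 := fun h => hc1 (hu c hc h)
    apply prodType S C hne hR 1 (x := g) (c := b)
    · rw [e1]; exact hg
    · rw [e1]; intro t ht; exact hcomm t ht b hb
    · exact hdiag c hc g hg hgc b hb hgb
  have hsq : ∀ c ∈ T, T ⊓ st φ (w * φ c w) ≠ ⊥ → c * c = 1 := by
    intro c hc hR
    by_cases hc1 : c = 1
    · rw [hc1, one_mul]
    have h1 : φ c (w * φ c w) = w * φ c w := hprod c hc hc1 hR c hc rfl
    rw [map_mul, ← mulφ, mul_comm] at h1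
    have h2 : φ (c * c) w = w := mul_right_cancel h1
    exact hT0 _ (T.mul_mem hc hc) h2
  -- involutions
  have hinvol : ∀ a ∈ T, a * a = 1 → a ≠ 1 → a ∈ T ⊓ st φ (w * φ a w) := by
    intro a ha ha2 ha1
    refine Subgroup.mem_inf.mpr ⟨ha, ?_⟩
    rw [mem_st, map_mul, ← mulφ, ha2, map_one, MulAut.one_apply, mul_comm]
  have hinvne : ∀ a ∈ T, a * a = 1 → a ≠ 1 → T ⊓ st φ (w * φ a w) ≠ ⊥ := by
    intro a ha ha2 ha1 h
    have := hinvol a ha ha2 ha1
    rw [h, mem_bot] at this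
    exact ha1 this
  -- `a` inverts the stabilizer
  have hinvert : ∀ a ∈ T, a * a = 1 → a ≠ 1 → ∀ x ∈ T ⊓ st φ (w * φ a w), (x * a) * (x * a) = 1 := by
    intro a ha ha2 ha1 x hx
    rw [Subgroup.mem_inf] at hx
    obtain ⟨hxT, hxs⟩ := hx
    by_cases hxa : x * a = 1
    · rw [hxa, one_mul]
    apply hsq _ (T.mul_mem hxT ha)
    have hne : w * φ (x * a) w ≠ 1 := fun h => hxa (hu _ (T.mul_mem hxT ha) h)
    rw [Ne, ← R_eq_bot_iff S C hne g₀]
    intro hbot
    obtain ⟨b, hb, hab⟩ := hd a ha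
    have hba := hbar a ha b hb hab
    have ha' : a⁻¹ = a := inv_eq_of_mul_eq_one_left ha2
    rw [ha'] at hba
    have hb1 : b ≠ 1 := by
      intro h
      rw [h, mul_one] at hab
      exact ha1 (hT0 a ha hab)
    apply hb1
    have h1 : φ x w * φ (x * a) w = w * φ a w := by
      have h2 : φ x (w * φ a w) = w * φ a w := hxs
      rwa [map_mul, ← mulφ] at h2
    -- `w * φ (x a) w = φ x w * φ a w`
    have h3 : w * φ (x * a) w = φ x w * φ a w := by
      have h4 : (w * φ (x * a) w) * (φ x w * φ a w) = 1 := by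
        calc (w * φ (x * a) w) * (φ x w * φ a w) = (w * φ a w) * (φ x w * φ (x * a) w) := by
              simp only [mul_comm, mul_left_comm]
          _ = (w * φ a w) * (w * φ a w) := by rw [h1]
          _ = 1 := S.two _
      exact (eq_of_mul_eq_one' S h4).symm
    have h5 : b ∈ cj g₀ T ⊓ st φ (w * φ (x * a) w) := by
      refine Subgroup.mem_inf.mpr ⟨hb, ?_⟩
      rw [mem_st]
      nth_rewrite 1 [h3]
      rw [map_mul, ← mulφ, ← mulφ, ← hcomm x hxT b hb, ← hcomm a ha b hb, mulφ, hba, mulφ, hba, ← mulφ, ← mulφ, ha2,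
        map_one, MulAut.one_apply, mul_comm]
    rw [hbot, mem_bot] at h5
    exact h5
  -- the stabilizer is elementary abelian and equals the centralizer
  have hcent : ∀ a ∈ T, a * a = 1 → a ≠ 1 → ∀ x ∈ T ⊓ st φ (w * φ a w), x * x = 1 := by
    intro a ha ha2 ha1 x hx
    have ha' : a⁻¹ = a := inv_eq_of_mul_eq_one_left ha2
    have h1 : ∀ y ∈ T ⊓ st φ (w * φ a w), a * y * a = y⁻¹ := by
      intro y hy
      have h2 := hinvert a ha ha2 ha1 y hy
      have h3 : y * (a * y * a) = 1 := by rw [← h2]; group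
      exact (inv_eq_of_mul_eq_one_right h3).symm
    have haR := hinvol a ha ha2 ha1
    have h2 : a * (x * a) * a = (x * a)⁻¹ := h1 _ (Subgroup.mul_mem _ hx haR)
    have h3 : a * x = a * x⁻¹ := by
      calc a * x = a * (x * a) * a := by
            rw [mul_assoc, mul_assoc, ha2, mul_one]
        _ = (x * a)⁻¹ := h2
        _ = a * x⁻¹ := by rw [mul_inv_rev, ha']
    have h4 : x = x⁻¹ := mul_left_cancel h3
    calc x * x = x * x⁻¹ := by rw [← h4]
      _ = 1 := mul_inv_cancel x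
  -- a Sylow 2-subgroup
  have h2p : Fact (Nat.Prime 2) := ⟨Nat.prime_two⟩
  obtain ⟨P⟩ : Nonempty (Sylow 2 T) := inferInstance
  have hPne : (P : Subgroup T) ≠ ⊥ := by
    intro h
    have h1 := P.ne_bot_of_dvd_card (hev T C.fac)
    exact h1 h
  have hPnt : Nontrivial (P : Subgroup T) := (Subgroup.nontrivial_iff_ne_bot _).mpr hPne
  obtain ⟨z, hz, hz2⟩ : ∃ z : (P : Subgroup T), z ∈ Subgroup.center (P : Subgroup T) ∧ orderOf z = 2 := by
    have h1 := P.2.bot_lt_center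
    have h2 : Nontrivial (Subgroup.center (P : Subgroup T)) := (Subgroup.nontrivial_iff_ne_bot _).mpr h1.ne'
    have h3 : IsPGroup 2 (Subgroup.center (P : Subgroup T)) := P.2.to_subgroup _
    obtain ⟨n, hn, hn'⟩ := (IsPGroup.nontrivial_iff_card h3).mp h2
    obtain ⟨z, hz⟩ := exists_prime_orderOf_dvd_card' (G := Subgroup.center (P : Subgroup T)) 2
      (by rw [hn']; exact dvd_pow_self 2 hn.ne')
    exact ⟨z, z.2, by rw [Subgroup.orderOf_coe, hz]⟩
  obtain ⟨a, haz⟩ : ∃ a : H, a = ((z : T) : H) := ⟨_, rfl⟩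
  have ha : a ∈ T := by rw [haz]; exact (z : T).2
  have ha2 : a * a = 1 := by
    have := pow_orderOf_eq_one z
    rw [hz2, pow_two] at this
    rw [haz]
    exact congrArg (fun y : (P : Subgroup T) => ((y : T) : H)) this
  have ha1 : a ≠ 1 := by
    intro h
    have h1 : z = 1 := by
      apply Subtype.ext; apply Subtype.ext
      rw [← haz]; exact h
    rw [h1, orderOf_one] at hz2
    exact absurd hz2 (by norm_num)
  -- the Sylow subgroup is the stabilizer
  obtain ⟨R, hR⟩ : ∃ R : Subgroup T, R = (T ⊓ st φ (w * φ a w)).subgroupOf T := ⟨_, rfl⟩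
  have hmR : ∀ x : T, x ∈ R ↔ (x : H) ∈ T ⊓ st φ (w * φ a w) := by
    intro x; rw [hR]; exact Subgroup.mem_subgroupOf
  have hPR : (P : Subgroup T) ≤ R := by
    intro x hx
    rw [hmR]
    refine Subgroup.mem_inf.mpr ⟨x.2, ?_⟩
    apply hprod a ha ha1 (hinvne a ha ha2 ha1) _ x.2
    have h1 := Subgroup.mem_center_iff.mp hz ⟨x, hx⟩
    have h2 := congrArg (fun y : (P : Subgroup T) => ((y : T) : H)) h1
    rw [haz]; exact h2
  have hRp : IsPGroup 2 R := by
    intro x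
    refine ⟨1, ?_⟩
    rw [pow_one, pow_two]
    apply Subtype.ext; apply Subtype.ext
    have hx : ((x : T) : H) ∈ T ⊓ st φ (w * φ a w) := (hmR _).mp x.2
    exact hcent a ha ha2 ha1 _ hx
  have hPeq : (P : Subgroup T) = R := (P.3 hRp hPR).symm
  have hcommP : ∀ x y : (P : Subgroup T), x * y = y * x := by
    have h1 : ∀ x : (P : Subgroup T), x * x = 1 := by
      intro x
      have hx : (x : T) ∈ R := by rw [← hPeq]; exact x.2
      apply Subtype.ext; apply Subtype.ext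
      exact hcent a ha ha2 ha1 _ ((hmR _).mp hx)
    intro x y
    have h2 : ∀ x : (P : Subgroup T), x⁻¹ = x := fun x => inv_eq_of_mul_eq_one_left (h1 x)
    calc x * y = (x * y)⁻¹ := (h2 _).symm
      _ = y⁻¹ * x⁻¹ := mul_inv_rev _ _
      _ = y * x := by rw [h2, h2]
  have hnorm : normalizer ((P : Subgroup T) : Set T) ≤ Subgroup.centralizer ((P : Subgroup T) : Set T) := by
    intro n hn
    have hne : w * φ a w ≠ 1 := fun h => ha1 (hu a ha h)
    have h1 : (n : H) ∈ st φ (w * φ a w) := by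
      apply mem_st_of_norm S C hne (hinvne a ha ha2 ha1)
      intro g s hs
      refine ⟨g, ?_⟩
      rw [Subgroup.mem_inf] at hs ⊢
      by_cases hg : cj g T = T
      · rw [hg] at hs ⊢
        have h2 : (⟨s, hs.1⟩ : T) ∈ (P : Subgroup T) := by
          rw [hPeq, hmR]
          exact Subgroup.mem_inf.mpr hs
        have h3 := (Subgroup.mem_normalizer_iff.mp hn _).mp h2
        rw [hPeq, hmR] at h3
        exact Subgroup.mem_inf.mp h3
      · have h2 : (n : H) * s = s * n := (cj_comm C.nor C.fac hg s hs.1 n n.2).symm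
        rw [h2, mul_inv_cancel_right]
        exact hs
    have h2 : n ∈ (P : Subgroup T) := by
      rw [hPeq, hmR]
      exact Subgroup.mem_inf.mpr ⟨n.2, h1⟩
    rw [Subgroup.mem_centralizer_iff]
    intro x hx
    exact congrArg Subtype.val (hcommP ⟨x, hx⟩ ⟨n, h2⟩)
  -- transfer
  have hcompl := MonoidHom.ker_transferSylow_isComplement' P hnorm
  have hsimple := isSimpleGroup C.nor C.min C.fac
  rcases hsimple.eq_bot_or_eq_top_of_normal _ (MonoidHom.normal_ker (MonoidHom.transferSylow P hnorm)) with h | h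
  · rw [h] at hcompl
    have h1 : (P : Subgroup T) = ⊤ := by
      have := hcompl.sup_eq_top
      rwa [bot_sup_eq] at this
    apply T_not_comm C.nor C.min C.fac C.nc
    intro x hx y hy
    have hx' : (⟨x, hx⟩ : T) ∈ (P : Subgroup T) := by rw [h1]; trivial
    have hy' : (⟨y, hy⟩ : T) ∈ (P : Subgroup T) := by rw [h1]; trivial
    exact congrArg (fun y : (P : Subgroup T) => ((y : T) : H)) (hcommP ⟨_, hx'⟩ ⟨_, hy'⟩)
  · rw [h] at hcompl
    apply hPne
    have := hcompl.disjoint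
    rwa [disjoint_iff, top_inf_eq] at this

/-- A nonabelian minimal normal subgroup is simple. -/
theorem all_eq [Nontrivial V] (S : Setup φ) (C : Soc M T)
    (hev : ∀ X : Subgroup H, Factor M X → 2 ∣ Nat.card X) (g : H) : cj g T = T := by
  by_contra hg
  obtain ⟨hall, w, hw1, hwT, t₁, ht₁, t₂, ht₂, ht₁1, ht⟩ := step_one S C hev hg
  exact step_three S C hev hg hw1 hwT (step_two S C hg hall hw1 hwT ht₁ ht₂ ht₁1 ht)


end H37.ExtPrim
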