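import Mathlib
import Cfsg.Agent.Lib.H37.ExtPrim3

set_option autoImplicit false
set_option maxHeartbeats 1000000

/-!
Linear groups in characteristic two acting primitively on each orbit: solvable or almost simple.
-/

namespace H37.ExtPrim

open Subgroup H63.MinNormalFactor

variable {H V : Type*} [Group H] [Finite H] [CommGroup V] [Finite V]
variable {φ : H →* MulAut V}

theorem mulAut_comm' {A : Type*} [Group A] [Finite A] (hA : IsCyclic A) (f g : MulAut A) : f * g = g * f := by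
  have := hA
  obtain ⟨a, ha⟩ := IsCyclic.exists_generator (α := A)
  have key : ∀ f : MulAut A, ∃ k : ℤ, ∀ x, f x = x ^ k := by
    intro f
    obtain ⟨k, hk⟩ := mem_zpowers_iff.mp (ha (f a))
    refine ⟨k, fun x => ?_⟩
    obtain ⟨j, rfl⟩ := mem_zpowers_iff.mp (ha x)
    rw [map_zpow, ← hk, ← zpow_mul, ← zpow_mul, mul_comm]
  obtain ⟨k, hk⟩ := key f
  obtain ⟨j, hj⟩ := key g
  ext x
  rw [MulAut.mul_apply, MulAut.mul_apply, hk, hj, hj, hk, ← zpow_mul, ← zpow_mul, mul_comm]

/-- A subgroup normalized by `st v` and with all its elements commuting with `M` is normal. -/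
theorem normal_of (S : Setup φ) {M : Subgroup H} (hM : M.Normal) (hM1 : M ≠ ⊥) {v : V} (hv : v ≠ 1) {K : Subgroup H}
    (h1 : ∀ s ∈ st φ v, ∀ k ∈ K, s * k * s⁻¹ ∈ K) (h2 : ∀ m ∈ M, ∀ k ∈ K, m * k * m⁻¹ ∈ K) : K.Normal := by
  refine ⟨fun k hk h => ?_⟩
  obtain ⟨m, hm, s, hs, rfl⟩ := exists_mul_st S hM hM1 hv h
  have : m * s * k * (m * s)⁻¹ = m * (s * k * s⁻¹) * m⁻¹ := by group
  rw [this]
  exact h2 m hm _ (h1 s hs k hk)

theorem solvable_of_comm [Nontrivial V] (S : Setup φ) {M : Subgroup H} (hM : M.Normal)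
    (hmin : ∀ K : Subgroup H, K.Normal → K ≤ M → K ≠ ⊥ → K = M) (hM1 : M ≠ ⊥)
    (hc : ∀ a ∈ M, ∀ b ∈ M, a * b = b * a) : Group.IsSolvable H := by
  have hconj : ∀ s k : H, ∀ v : V, s ∈ st φ v → k ∈ M ⊓ st φ v → s * k * s⁻¹ ∈ M ⊓ st φ v := by
    intro s k v hs hk
    rw [Subgroup.mem_inf] at hk ⊢
    exact ⟨hM.conj_mem k hk.1 s, (st φ v).mul_mem ((st φ v).mul_mem hs hk.2) ((st φ v).inv_mem hs)⟩
  have hMs : ∀ v : V, v ≠ 1 → M ⊓ st φ v = ⊥ := by
    intro v hv
    by_contra hne
    have hn : (M ⊓ st φ v).Normal := by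
      apply normal_of S hM hM1 hv
      · intro s hs k hk
        exact hconj s k v hs hk
      · intro m hm k hk
        rw [hc m hm k (Subgroup.mem_inf.mp hk).1, mul_inv_cancel_right]
        exact hk
    have h1 := hmin _ hn inf_le_left hne
    apply not_le S hM hM1 hv
    rw [← h1]; exact inf_le_right
  -- `M` is cyclic
  have hcyc : IsCyclic M := by
    let _ : MulDistribMulAction M V := MulDistribMulAction.compHom V (φ.comp M.subtype)
    apply H1.Cyc.isCyclic_of_comm (V := V)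
    · intro a ha v hav
      by_contra hv
      apply ha
      have : (a : H) ∈ M ⊓ st φ v := Subgroup.mem_inf.mpr ⟨a.2, hav⟩
      rw [hMs v hv, mem_bot] at this
      exact Subtype.ext this
    · intro a b
      exact Subtype.ext (hc a a.2 b b.2)
  obtain ⟨v, hv⟩ := exists_ne (1 : V)
  have hCM : centralizer (M : Set H) ≤ M := by
    obtain ⟨C, hC⟩ : ∃ C, C = centralizer (M : Set H) := ⟨_, rfl⟩
    have hCn : C.Normal := by rw [hC]; infer_instance
    have hmem : ∀ c ∈ C, ∀ m ∈ M, m * c = c * m := by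
      intro c hc' m hm
      rw [hC] at hc'
      exact mem_centralizer_iff.mp hc' m hm
    have hMC : M ≤ C := by
      intro m hm
      rw [hC, mem_centralizer_iff]
      intro b hb
      exact hc b hb m hm
    have hbot : C ⊓ st φ v = ⊥ := by
      by_contra hne
      have hn : (C ⊓ st φ v).Normal := by
        apply normal_of S hM hM1 hv
        · intro s hs k hk
          rw [Subgroup.mem_inf] at hk ⊢
          exact ⟨hCn.conj_mem k hk.1 s, (st φ v).mul_mem ((st φ v).mul_mem hs hk.2) ((st φ v).inv_mem hs)⟩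
        · intro m hm k hk
          rw [hmem k (Subgroup.mem_inf.mp hk).1 m hm, mul_inv_cancel_right]
          exact hk
      exact not_le S hn hne hv inf_le_right
    rw [← hC]
    intro c hcC
    obtain ⟨m, hm, s, hs, rfl⟩ := exists_mul_st S hM hM1 hv c
    have hsC : s ∈ C := by
      have := C.mul_mem (C.inv_mem (hMC hm)) hcC
      simpa using this
    have : s ∈ C ⊓ st φ v := Subgroup.mem_inf.mpr ⟨hsC, hs⟩
    rw [hbot, mem_bot] at this
    rw [this, mul_one]; exact hm
  have hMs' : Group.IsSolvable M := Group.isSolvable_of_comm (fun a b => Subtype.ext (hc a a.2 b b.2))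
  have hAs : Group.IsSolvable (MulAut M) := Group.isSolvable_of_comm (mulAut_comm' hcyc)
  apply Group.isSolvable_of_ker_le_range M.subtype (MulAut.conjNormal (H := M))
  intro x hx
  rw [Subgroup.range_subtype]
  apply hCM
  rw [mem_centralizer_iff]
  intro m hm
  rw [MonoidHom.mem_ker] at hx
  have h1 := congrArg (fun f : MulAut M => ((f ⟨m, hm⟩ : M) : H)) hx
  simp only [MulAut.conjNormal_apply, MulAut.one_apply] at h1
  rw [mul_inv_eq_iff_eq_mul] at h1
  exact h1.symm

theorem centralizer_eq_bot [Nontrivial V] (S : Setup φ) {M : Subgroup H} (hM : M.Normal)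
    (hmin : ∀ K : Subgroup H, K.Normal → K ≤ M → K ≠ ⊥ → K = M) (hM1 : M ≠ ⊥)
    (hev : ∃ t ∈ M, t * t = 1 ∧ t ≠ 1) : centralizer (M : Set H) = ⊥ := by
  by_contra hne
  obtain ⟨C, hC⟩ : ∃ C, C = centralizer (M : Set H) := ⟨_, rfl⟩
  have hCn : C.Normal := by rw [hC]; infer_instance
  have hC1 : C ≠ ⊥ := by rw [hC]; exact hne
  have hmem : ∀ c ∈ C, ∀ m ∈ M, m * c = c * m := by
    intro c hc' m hm
    rw [hC] at hc'
    exact mem_centralizer_iff.mp hc' m hm
  have hMs : ∀ v : V, v ≠ 1 → M ⊓ st φ v = ⊥ := by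
    intro v hv
    by_contra hne
    have hn : (M ⊓ st φ v).Normal := by
      apply normal_of S hCn hC1 hv
      · intro s hs k hk
        rw [Subgroup.mem_inf] at hk ⊢
        exact ⟨hM.conj_mem k hk.1 s, (st φ v).mul_mem ((st φ v).mul_mem hs hk.2) ((st φ v).inv_mem hs)⟩
      · intro m hm k hk
        rw [← hmem m hm k (Subgroup.mem_inf.mp hk).1, mul_inv_cancel_right]
        exact hk
    have h1 := hmin _ hn inf_le_left hne
    apply not_le S hM hM1 hv
    rw [← h1]; exact inf_le_right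
  obtain ⟨t, ht, ht2, ht1⟩ := hev
  obtain ⟨v, hv, htv⟩ := exists_fixed S ht2
  apply ht1
  have : t ∈ M ⊓ st φ v := Subgroup.mem_inf.mpr ⟨ht, htv⟩
  rwa [hMs v hv, mem_bot] at this

/-- The main theorem for linear groups. -/
theorem linear [Nontrivial V] (S : Setup φ) (hns : ¬ Group.IsSolvable H)
    (hFT : ∀ X : Subgroup H, Odd (Nat.card X) → Group.IsSolvable X) :
    ∃ T : Subgroup H, T.Normal ∧ IsSimpleGroup T ∧ ¬ IsMulCommutative T ∧ centralizer (T : Set H) = ⊥ := by
  have hnt : Nontrivial H := by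
    by_contra h
    rw [not_nontrivial_iff_subsingleton] at h
    exact hns inferInstance
  -- minimal normal subgroup
  obtain ⟨M, ⟨hM, hM1⟩, hmin'⟩ := Set.Finite.exists_minimal (s := {K : Subgroup H | K.Normal ∧ K ≠ ⊥})
    (Set.toFinite _) ⟨⊤, inferInstance, top_ne_bot⟩
  have hmin : ∀ K : Subgroup H, K.Normal → K ≤ M → K ≠ ⊥ → K = M := by
    intro K hK hKM hK1
    exact le_antisymm hKM (hmin' ⟨hK, hK1⟩ hKM)
  have hMc : ¬ ∀ a ∈ M, ∀ b ∈ M, a * b = b * a := fun h => hns (solvable_of_comm S hM hmin hM1 h)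
  obtain ⟨T, hTM, hT1, hTn, hTmin⟩ := exists_min M hM1
  have C : Soc M T := ⟨hM, hmin, hM1, hMc, ⟨hTM, hT1, hTn, hTmin⟩⟩
  have hev : ∀ X : Subgroup H, Factor M X → 2 ∣ Nat.card X := by
    intro X hX
    by_contra h
    have h1 : Odd (Nat.card X) := by rwa [← Nat.not_even_iff_odd, even_iff_two_dvd]
    have h2 := hFT X h1
    have h3 := isSimpleGroup hM hmin hX
    apply T_not_comm hM hmin hX hMc
    have h4 : ∀ a b : X, a * b = b * a := (IsSimpleGroup.comm_iff_isSolvable).mpr h2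
    intro a ha b hb
    exact congrArg Subtype.val (h4 ⟨a, ha⟩ ⟨b, hb⟩)
  have hMT : M = T := by
    rw [← iSup_cj hM hmin C.fac]
    apply le_antisymm
    · exact iSup_le (fun g => (all_eq S C hev g).le)
    · have := le_iSup (fun g : H => cj g T) 1
      rwa [cj_one] at this
  refine ⟨T, hMT ▸ hM, isSimpleGroup hM hmin C.fac, ?_, ?_⟩
  · intro h
    apply T_not_comm hM hmin C.fac hMc
    intro a ha b hb
    exact congrArg Subtype.val (h.is_comm.comm ⟨a, ha⟩ ⟨b, hb⟩)
  · rw [← hMT]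
    apply centralizer_eq_bot S hM hmin hM1
    obtain ⟨t, ht, h⟩ := soc_card_even C hev C.fac
    exact ⟨t, hTM ht, h⟩

end H37.ExtPrim
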