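import Mathlib
import Cfsg.Agent.Lib.H37.ExtPrim4

set_option autoImplicit false
set_option maxHeartbeats 1000000

/-!
Extremely primitive groups of affine type.
-/

namespace H37.ExtPrim

open Subgroup H63.MinNormalFactor MulAction

universe u v

section pre

variable {H V : Type*} [Group H] [Finite H] [CommGroup V] [Finite V] {φ : H →* MulAut V}

/-- in odd characteristic there are no involutions unless the group is solvable -/
theorem solvable_of_involution (hinj : Function.Injective φ)
    (hirr : ∀ W : Subgroup V, (∀ h : H, ∀ w ∈ W, φ h w ∈ W) → W = ⊥ ∨ W = ⊤)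
    (hmax : ∀ v : V, v ≠ 1 → IsCoatom (st φ v)) (hodd : ∀ v : V, v * v = 1 → v = 1)
    {t : H} (ht : t * t = 1) (ht1 : t ≠ 1) : Group.IsSolvable H := by
  have h1 : φ t ≠ 1 := fun h => ht1 (hinj (by rw [h, map_one]))
  obtain ⟨m, hm⟩ : ∃ m, φ t m ≠ m := by
    by_contra hcon
    push Not at hcon
    exact h1 (MulEquiv.ext hcon)
  obtain ⟨n, hn⟩ : ∃ n, n = m⁻¹ * φ t m := ⟨_, rfl⟩
  have hn1 : n ≠ 1 := by
    intro h
    rw [hn, inv_mul_eq_one] at h
    exact hm h.symm
  have hnt : φ t n = n⁻¹ := by
    rw [hn, map_mul, ← mulφ, ht, map_one, MulAut.one_apply, map_inv, mul_inv_rev, inv_inv]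
  have hnot : t ∉ st φ n := by
    intro h
    apply hn1
    apply hodd
    rw [mem_st, hnt] at h
    nth_rewrite 1 [← h]
    exact inv_mul_cancel n
  have htop : st φ n ⊔ zpowers t = ⊤ := by
    apply (hmax n hn1).2
    apply lt_of_le_of_ne le_sup_left
    intro h
    apply hnot
    rw [h]
    exact (le_sup_right : zpowers t ≤ _) (mem_zpowers t)
  have htinv : t⁻¹ = t := inv_eq_of_mul_eq_one_left ht
  let K : Subgroup H :=
    { carrier := {h | (∀ x ∈ zpowers n, φ h x ∈ zpowers n) ∧ (∀ x ∈ zpowers n, φ h⁻¹ x ∈ zpowers n)}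
      mul_mem' := by
        rintro a b ⟨ha, ha'⟩ ⟨hb, hb'⟩
        refine ⟨fun x hx => ?_, fun x hx => ?_⟩
        · rw [mulφ]; exact ha _ (hb _ hx)
        · rw [mul_inv_rev, mulφ]; exact hb' _ (ha' _ hx)
      one_mem' := by
        refine ⟨fun x hx => ?_, fun x hx => ?_⟩
        · rw [map_one]; exact hx
        · rw [inv_one, map_one]; exact hx
      inv_mem' := by
        rintro a ⟨ha, ha'⟩
        refine ⟨ha', ?_⟩
        rw [inv_inv]; exact ha }
  have hK1 : st φ n ≤ K := by
    have : ∀ h ∈ st φ n, ∀ x ∈ zpowers n, φ h x ∈ zpowers n := by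
      intro h hh x hx
      obtain ⟨k, rfl⟩ := mem_zpowers_iff.mp hx
      rw [map_zpow, show φ h n = n from hh]
      exact hx
    intro h hh
    exact ⟨this h hh, this h⁻¹ (inv_mem hh)⟩
  have hK2 : zpowers t ≤ K := by
    rw [zpowers_le]
    have : ∀ x ∈ zpowers n, φ t x ∈ zpowers n := by
      intro x hx
      obtain ⟨k, rfl⟩ := mem_zpowers_iff.mp hx
      rw [map_zpow, hnt, inv_zpow]
      exact inv_mem hx
    refine ⟨this, ?_⟩
    rw [htinv]; exact this
  have hKtop : K = ⊤ := by
    rw [eq_top_iff, ← htop]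
    exact sup_le hK1 hK2
  have hW : zpowers n = ⊥ ∨ zpowers n = ⊤ := by
    apply hirr
    intro h w hw
    have : h ∈ K := by rw [hKtop]; exact mem_top h
    exact this.1 w hw
  have hcyc : IsCyclic V := by
    rcases hW with h | h
    · exfalso
      apply hn1
      have : n ∈ zpowers n := mem_zpowers n
      rwa [h, mem_bot] at this
    · refine ⟨n, fun x => ?_⟩
      have : x ∈ zpowers n := by rw [h]; exact mem_top x
      exact this
  apply Group.isSolvable_of_comm
  intro a b
  apply hinj
  rw [map_mul, map_mul, mulAut_comm' hcyc]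

end pre

theorem main (hFT : ∀ (X : Type u) [Group X] [Finite X], Odd (Nat.card X) → Group.IsSolvable X)
    {G : Type u} [Group G] [Finite G] {Ω : Type v} [Fintype Ω] [MulAction G Ω] [FaithfulSMul G Ω] (p d : ℕ)
    (hp : p.Prime) (hcard : Fintype.card Ω = p ^ d) (hsol : ¬ Group.IsSolvable G)
    (N : Subgroup G) [hNn : N.Normal] (hN : N ≠ ⊥) (hNc : IsMulCommutative N)
    (hNreg : ∀ ω : Ω, MulAction.stabilizer N ω = ⊥)
    (hprim : MulAction.IsPreprimitive G Ω) (hH : ∀ α : Ω, MulAction.stabilizer G α ≠ ⊥)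
    (hep : ∀ (α : Ω) (ω : Ω),
      MulAction.IsPreprimitive (MulAction.stabilizer G α) (MulAction.orbit (MulAction.stabilizer G α) ω)) (α : Ω) :
    p = 2 ∧ ∃ T : Subgroup (MulAction.stabilizer G α), T.Normal ∧ IsSimpleGroup T ∧ ¬ IsMulCommutative T ∧
      Subgroup.centralizer (T : Set (MulAction.stabilizer G α)) = ⊥ := by
  classical
  have hreg : ∀ n ∈ N, ∀ ω : Ω, n • ω = ω → n = 1 := by
    intro n hn ω h
    have : (⟨n, hn⟩ : N) ∈ MulAction.stabilizer N ω := h
    rw [hNreg, mem_bot] at this
    exact congrArg Subtype.val this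
  have hfix : ∀ K : Subgroup G, K ≤ N → K ≠ ⊥ → MulAction.fixedPoints K Ω ≠ .univ := by
    intro K hKN hK h
    apply hK
    rw [eq_bot_iff]
    intro k hk
    have : α ∈ MulAction.fixedPoints K Ω := by rw [h]; trivial
    exact mem_bot.mpr (hreg k (hKN hk) α (this ⟨k, hk⟩))
  have htrans : ∀ K : Subgroup G, K.Normal → K ≤ N → K ≠ ⊥ → ∀ ω : Ω, ∃ k ∈ K, k • α = ω := by
    intro K hK hKN hK1 ω
    have h1 : MulAction.IsPretransitive K Ω :=
      MulAction.IsQuasiPreprimitive.isPretransitive_of_normal (hfix K hKN hK1)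
    obtain ⟨k, hk⟩ := h1.exists_smul_eq α ω
    exact ⟨k, k.2, hk⟩
  let _ : CommGroup N := { (inferInstance : Group N) with mul_comm := fun a b => hNc.is_comm.comm a b }
  let H := MulAction.stabilizer G α
  let φ : H →* MulAut N := (MulAut.conjNormal (H := N)).comp H.subtype
  have hφ : ∀ (h : H) (n : N), ((φ h n : N) : G) = h * n * (h : G)⁻¹ := by
    intro h n
    exact MulAut.conjNormal_apply (h : G) n
  have hHα : ∀ h : H, (h : G) • α = α := fun h => h.2
  have hinj : Function.Injective φ := by
    rw [← MonoidHom.ker_eq_bot_iff, eq_bot_iff]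
    intro h hh
    rw [MonoidHom.mem_ker] at hh
    rw [mem_bot]
    apply Subtype.ext
    apply FaithfulSMul.eq_of_smul_eq_smul (α := Ω)
    intro ω
    obtain ⟨n, hn, rfl⟩ := htrans N hNn le_rfl hN ω
    have h1 : (h : G) * n * (h : G)⁻¹ = n := by
      rw [← hφ h ⟨n, hn⟩, hh]; rfl
    have h2 : (h : G) * n = n * h := by
      rw [mul_inv_eq_iff_eq_mul] at h1; exact h1
    rw [← mul_smul, h2, mul_smul, hHα h, OneMemClass.coe_one, one_smul]
  have hdec : ∀ g : G, ∃ n ∈ N, ∃ h : H, g = n * h := by
    intro g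
    obtain ⟨n, hn, hnα⟩ := htrans N hNn le_rfl hN (g • α)
    refine ⟨n, hn, ⟨n⁻¹ * g, ?_⟩, by simp⟩
    rw [MulAction.mem_stabilizer_iff, mul_smul, ← hnα, inv_smul_smul]
  have hirr : ∀ W : Subgroup N, (∀ h : H, ∀ w ∈ W, φ h w ∈ W) → W = ⊥ ∨ W = ⊤ := by
    intro W hW
    by_cases hW1 : W = ⊥
    · exact Or.inl hW1
    right
    have hn : (W.map N.subtype).Normal := by
      refine ⟨?_⟩
      rintro _ ⟨w, hw, rfl⟩ g
      obtain ⟨n, hn, h, rfl⟩ := hdec g
      refine ⟨φ h w, hW h w hw, ?_⟩
      have h1 : (n * (h : G)) * (w : G) * (n * (h : G))⁻¹ = n * ((φ h w : N) : G) * n⁻¹ := by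
        rw [hφ]; group
      show ((φ h w : N) : G) = (n * (h : G)) * (w : G) * (n * (h : G))⁻¹
      rw [h1]
      have h2 : n * ((φ h w : N) : G) = ((φ h w : N) : G) * n :=
        congrArg Subtype.val (hNc.is_comm.comm (⟨n, hn⟩ : N) (φ h w))
      rw [h2, mul_inv_cancel_right]
    have hne : W.map N.subtype ≠ ⊥ := by
      rw [Ne, Subgroup.map_eq_bot_iff_of_injective _ N.subtype_injective]
      exact hW1
    rw [eq_top_iff]
    rintro ⟨n, hn'⟩ -
    obtain ⟨k, ⟨w, hw, hwk⟩, hk⟩ := htrans _ hn (map_subtype_le W) hne (n • α)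
    have h1 : n⁻¹ * k = 1 := by
      apply hreg _ (N.mul_mem (N.inv_mem hn') (by rw [← hwk]; exact w.2)) α
      rw [mul_smul, hk, inv_smul_smul]
    have h2 : n = k := inv_mul_eq_one.mp h1
    have h3 : (⟨n, hn'⟩ : N) = w := by
      apply Subtype.ext
      exact h2.trans hwk.symm
    rw [h3]; exact hw
  have hstab : ∀ (n : N) (h : H), h ∈ st φ n ↔ (h : G) • ((n : G) • α) = (n : G) • α := by
    intro n h
    rw [mem_st]
    constructor
    · intro e
      have h1 : (h : G) * n * (h : G)⁻¹ = n := by rw [← hφ, e]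
      have h2 : (h : G) * n = n * h := by
        rw [mul_inv_eq_iff_eq_mul] at h1; exact h1
      rw [← mul_smul, h2, mul_smul, hHα h]
    · intro e
      have h1 : (n : G)⁻¹ * ((h : G) * n * (h : G)⁻¹) = 1 := by
        apply hreg _ (N.mul_mem (N.inv_mem n.2) (hNn.conj_mem _ n.2 _)) α
        have h2 : (h : G)⁻¹ • α = α := by rw [inv_smul_eq_iff]; exact (hHα h).symm
        rw [mul_smul, mul_smul, mul_smul, h2, e, inv_smul_smul]
      apply Subtype.ext
      rw [hφ]
      exact (inv_mul_eq_one.mp h1).symm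
  have hmax : ∀ n : N, n ≠ 1 → IsCoatom (st φ n) := by
    intro n hn
    let x₀ : MulAction.orbit H ((n : G) • α) := ⟨(n : G) • α, MulAction.mem_orbit_self _⟩
    have h1 : MulAction.stabilizer H x₀ = st φ n := by
      ext h
      rw [hstab, MulAction.mem_stabilizer_iff]
      constructor
      · intro e; exact congrArg Subtype.val e
      · intro e; exact Subtype.ext e
    have hnt : Nontrivial (MulAction.orbit H ((n : G) • α)) := by
      by_contra hcon
      rw [not_nontrivial_iff_subsingleton] at hcon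
      have h2 : ∀ h : H, h ∈ st φ n := by
        intro h
        rw [← h1, MulAction.mem_stabilizer_iff]
        exact Subsingleton.elim _ _
      let W : Subgroup N :=
        { carrier := {m | ∀ h : H, φ h m = m}
          mul_mem' := by
            intro a b ha hb h
            rw [map_mul, ha h, hb h]
          one_mem' := by
            intro h
            rw [map_one]
          inv_mem' := by
            intro a ha h
            rw [map_inv, ha h] }
      have hW : W = ⊥ ∨ W = ⊤ := by
        apply hirr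
        intro h w hw
        rw [show φ h w = w from hw h]; exact hw
      rcases hW with hW | hW
      · apply hn
        have : n ∈ W := fun h => h2 h
        rwa [hW, mem_bot] at this
      · apply hH α
        rw [eq_bot_iff]
        intro h hh
        have : (⟨h, hh⟩ : H) = 1 := by
          apply hinj
          rw [map_one]
          ext m
          have : m ∈ W := by rw [hW]; exact mem_top m
          exact congrArg Subtype.val (this ⟨h, hh⟩)
        exact mem_bot.mpr (congrArg Subtype.val this)
    rw [← h1]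
    exact (MulAction.isCoatom_stabilizer_iff_preprimitive H x₀).mpr (hep α _)
  -- solvability of `G` from that of `H`
  have hHns : ¬ Group.IsSolvable H := by
    intro hs
    apply hsol
    have hNs : Group.IsSolvable N := Group.isSolvable_of_comm (fun a b => hNc.is_comm.comm a b)
    have hqs : Group.IsSolvable (G ⧸ N) := by
      apply Group.isSolvable_of_surjective (f := (QuotientGroup.mk' N).comp H.subtype)
      intro q
      obtain ⟨g, rfl⟩ := QuotientGroup.mk'_surjective N q
      obtain ⟨n, hn, h, rfl⟩ := hdec g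
      refine ⟨h, ?_⟩
      rw [map_mul, show QuotientGroup.mk' N n = 1 from (QuotientGroup.eq_one_iff n).mpr hn, one_mul]
      rfl
    exact Group.isSolvable_of_ker_le_range N.subtype (QuotientGroup.mk' N) (by
      rw [QuotientGroup.ker_mk', Subgroup.range_subtype])
  -- the order of `N`
  have hNcard : Nat.card N = p ^ d := by
    rw [← hcard, ← Nat.card_eq_fintype_card]
    apply Nat.card_congr
    refine Equiv.ofBijective (fun n : N => (n : G) • α) ⟨?_, ?_⟩
    · intro a b hab
      have h1 : (b : G)⁻¹ * a = 1 := by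
        apply hreg _ (N.mul_mem (N.inv_mem b.2) a.2) α
        change (a : G) • α = (b : G) • α at hab
        rw [mul_smul, hab, inv_smul_smul]
      exact Subtype.ext (inv_mul_eq_one.mp h1).symm
    · intro ω
      obtain ⟨n, hn, e⟩ := htrans N hNn le_rfl hN ω
      exact ⟨⟨n, hn⟩, e⟩
  have hp2 : p = 2 := by
    by_contra hp2
    apply hHns
    have hoddp : Odd p := hp.odd_of_ne_two hp2
    have hodd : ∀ v : N, v * v = 1 → v = 1 := by
      intro v hv
      have h1 : orderOf v ∣ 2 := orderOf_dvd_of_pow_eq_one (by rw [pow_two]; exact hv)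
      have h2 : orderOf v ∣ p ^ d := by rw [← hNcard]; exact orderOf_dvd_natCard v
      have h3 : orderOf v = 1 := Nat.eq_one_of_dvd_coprimes (by
        apply Nat.Coprime.pow_right
        rw [Nat.coprime_two_left]; exact hoddp) h1 h2
      exact orderOf_eq_one_iff.mp h3
    by_cases hHo : Odd (Nat.card H)
    · exact hFT H hHo
    · rw [Nat.not_odd_iff_even, even_iff_two_dvd] at hHo
      have : Fact (Nat.Prime 2) := ⟨Nat.prime_two⟩
      obtain ⟨t, ht⟩ := exists_prime_orderOf_dvd_card' 2 hHo
      have ht2 : t * t = 1 := by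
        have := pow_orderOf_eq_one t
        rwa [ht, pow_two] at this
      have ht1 : t ≠ 1 := by
        rintro rfl
        rw [orderOf_one] at ht
        exact absurd ht (by norm_num)
      exact solvable_of_involution hinj hirr hmax hodd ht2 ht1
  refine ⟨hp2, ?_⟩
  subst hp2
  have htwo : ∀ v : N, v * v = 1 := by
    have hd : d ≠ 0 := by
      rintro rfl
      rw [pow_zero] at hNcard
      exact hN (Subgroup.card_eq_one.mp hNcard)
    have : Fact (Nat.Prime 2) := ⟨Nat.prime_two⟩
    obtain ⟨t, ht⟩ := exists_prime_orderOf_dvd_card' (G := N) 2 (by rw [hNcard]; exact dvd_pow_self 2 hd)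
    let W : Subgroup N := (powMonoidHom 2 : N →* N).ker
    have hW : W = ⊥ ∨ W = ⊤ := by
      apply hirr
      intro h w hw
      have : w ^ 2 = 1 := hw
      show (φ h w) ^ 2 = 1
      rw [← map_pow, this, map_one]
    rcases hW with hW | hW
    · exfalso
      have h1 : t ∈ W := by
        show t ^ 2 = 1
        rw [← ht, pow_orderOf_eq_one]
      rw [hW, mem_bot] at h1
      rw [h1, orderOf_one] at ht
      exact absurd ht (by norm_num)
    · intro v
      have h1 : v ∈ W := by rw [hW]; exact mem_top v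
      rw [← pow_two]; exact h1
  have hnt : Nontrivial N := (Subgroup.nontrivial_iff_ne_bot _).mpr hN
  exact linear ⟨hinj, htwo, hirr, hmax⟩ hHns (fun X hX => hFT X hX)

end H37.ExtPrim
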