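import Mathlib
import Cfsg.Agent.Lib.H62.ConjRep

/-!
# Fixed-point-free action of an element of order `p` on a `p'`-group acting on a `p`-group

If `t` has order `p`, normalizes a `p'`-group `Q` with `C_Q(t) = 1`, and `Q⟨t⟩` acts on an elementary
abelian `p`-group `A ≠ 1` with `C_A(Q) = 1` and `|C_A(t)| ≤ p`, then `|A| = p ^ p`.
-/

set_option autoImplicit false
set_option maxHeartbeats 1000000

namespace H37.FrobFree

open Subgroup

section Linear

variable {K V : Type*} [Field K] [AddCommGroup V] [Module K V] [FiniteDimensional K V]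

theorem finrank_ker_pow_le (S : Module.End K V) (k : ℕ) :
    Module.finrank K (LinearMap.ker (S ^ k)) ≤ k * Module.finrank K (LinearMap.ker S) := by
  induction k with
  | zero => simp [LinearMap.ker_id, Module.End.one_eq_id]
  | succ k ih =>
    have hmem : ∀ v : LinearMap.ker (S ^ (k + 1)), (S ^ k) (v : V) ∈ LinearMap.ker S := by
      rintro ⟨v, hv⟩
      rw [LinearMap.mem_ker, pow_succ', Module.End.mul_apply] at hv
      exact hv
    let f : LinearMap.ker (S ^ (k + 1)) →ₗ[K] LinearMap.ker S :=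
      LinearMap.codRestrict _ ((S ^ k).domRestrict (LinearMap.ker (S ^ (k + 1)))) hmem
    have h1 := LinearMap.finrank_range_add_finrank_ker f
    have h2 : Module.finrank K (LinearMap.range f) ≤ Module.finrank K (LinearMap.ker S) :=
      Submodule.finrank_le _
    let g : LinearMap.ker f →ₗ[K] LinearMap.ker (S ^ k) :=
      LinearMap.codRestrict _ ((LinearMap.ker (S ^ (k + 1))).subtype.comp (LinearMap.ker f).subtype) (by
        intro v
        have hv : f (v : LinearMap.ker (S ^ (k + 1))) = 0 := v.2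
        have := congrArg Subtype.val hv
        exact this)
    have h3 : Module.finrank K (LinearMap.ker f) ≤ Module.finrank K (LinearMap.ker (S ^ k)) := by
      apply LinearMap.finrank_le_finrank_of_injective (f := g)
      intro v w hvw
      apply Subtype.ext
      apply Subtype.ext
      exact congrArg (fun z : LinearMap.ker (S ^ k) => (z : V)) hvw
    rw [← h1]
    calc _ ≤ Module.finrank K (LinearMap.ker S) + k * Module.finrank K (LinearMap.ker S) :=
          Nat.add_le_add h2 (h3.trans ih)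
      _ = _ := by ring

theorem finrank_eq (S : Module.End K V) (p : ℕ) (hp : 0 < p) (h0 : S ^ p = 0) (h1 : S ^ (p - 1) ≠ 0)
    (h2 : Module.finrank K (LinearMap.ker S) ≤ 1) : Module.finrank K V = p := by
  apply le_antisymm
  · have h := finrank_ker_pow_le S p
    rw [h0, LinearMap.ker_zero, finrank_top] at h
    calc _ ≤ _ := h
      _ ≤ p * 1 := Nat.mul_le_mul_left _ h2
      _ = p := mul_one p
  · by_contra hlt
    push Not at hlt
    apply h1
    have h3 := Module.End.ker_pow_le_ker_pow_finrank S p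
    rw [h0, LinearMap.ker_zero, top_le_iff, LinearMap.ker_eq_top] at h3
    have h4 : p - 1 = Module.finrank K V + (p - 1 - Module.finrank K V) := by omega
    rw [h4, pow_add, h3, zero_mul]

open Polynomial in
theorem sub_one_pow (p : ℕ) [hp : Fact p.Prime] {A : Type*} [Ring A] [Algebra (ZMod p) A] (T : A) :
    (T - 1) ^ (p - 1) = ∑ i ∈ Finset.range p, T ^ i := by
  have h1 : (X - 1 : (ZMod p)[X]) ^ (p - 1) = ∑ i ∈ Finset.range p, X ^ i := by
    have h2 : (X - 1 : (ZMod p)[X]) ≠ 0 := by
      have := Polynomial.X_sub_C_ne_zero (1 : ZMod p)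
      rwa [Polynomial.C_1] at this
    apply mul_left_cancel₀ h2
    rw [← pow_succ', Nat.sub_add_cancel hp.out.one_le, mul_comm, geom_sum_mul, sub_pow_char, one_pow]
  have h2 := congrArg (Polynomial.aeval T) h1
  simpa using h2

end Linear

/-- The main computation: the norm of `t` is nonzero. -/
theorem norm_ne_zero {G : Type*} [Group G] {p : ℕ} [hp : Fact p.Prime] {V : Type*} [AddCommGroup V]
    [Module (ZMod p) V] (ρ : G →* Module.End (ZMod p) V) (Q : Subgroup G) [Finite Q] (t : G)
    (ht : t ^ p = 1) (hQ : (Nat.card Q).Coprime p) (htQ : ∀ x ∈ Q, t * x * t⁻¹ ∈ Q)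
    (hfix : ∀ x ∈ Q, t * x = x * t → x = 1) (hV : ∀ v : V, (∀ x ∈ Q, ρ x v = v) → v = 0)
    [Nontrivial V] : ∑ i ∈ Finset.range p, ρ t ^ i ≠ 0 := by
  classical
  intro h0
  have : Fintype Q := Fintype.ofFinite Q
  -- powers of `t` normalise `Q`
  have htn : ∀ i : ℕ, ∀ x ∈ Q, t ^ i * x * (t ^ i)⁻¹ ∈ Q := by
    intro i
    induction i with
    | zero => intro x hx; simpa using hx
    | succ i ih =>
      intro x hx
      have h1 := htQ _ (ih x hx)
      have h2 : t ^ (i + 1) * x * (t ^ (i + 1))⁻¹ = t * (t ^ i * x * (t ^ i)⁻¹) * t⁻¹ := by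
        rw [pow_succ']; group
      rw [h2]; exact h1
  -- powers of `t` act freely
  have hfi : ∀ i : ℕ, 0 < i → i < p → ∀ x ∈ Q, t ^ i * x = x * t ^ i → x = 1 := by
    intro i hi hip x hx hc
    apply hfix x hx
    have hco : Nat.Coprime i p := by
      rw [Nat.coprime_comm, Nat.Prime.coprime_iff_not_dvd hp.out]
      exact fun hd => absurd (Nat.le_of_dvd hi hd) (not_le.mpr hip)
    have hc' : Commute (t ^ i) x := hc
    obtain ⟨m, -, hm⟩ := Nat.exists_mul_mod_eq_one_of_coprime hco hp.out.one_lt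
    have h1 : t = (t ^ i) ^ m := by
      rw [← pow_mul, ← Nat.mod_add_div (i * m) p, hm, pow_add, pow_one, pow_mul, ht, one_pow, mul_one]
    rw [h1]
    exact (hc'.pow_left m).eq
  -- sum over Q kills V
  have hsum : ∀ v : V, ∑ x : Q, ρ (x : G) v = 0 := by
    intro v
    apply hV
    intro y hy
    rw [map_sum]
    refine Fintype.sum_equiv (Equiv.mulLeft (⟨y, hy⟩ : Q)) _ _ ?_
    intro x
    show ρ y (ρ (x : G) v) = ρ (y * (x : G)) v
    rw [map_mul]; rfl
  obtain ⟨v, hv⟩ := exists_ne (0 : V)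
  -- the double sum
  have h1 : ∑ x : Q, ∑ i ∈ Finset.range p, ρ ((x : G) * t ^ i * (x : G)⁻¹) v = 0 := by
    apply Finset.sum_eq_zero
    intro x _
    have h2 : ∀ i, ρ ((x : G) * t ^ i * (x : G)⁻¹) v = ρ (x : G) ((ρ t ^ i) (ρ (x : G)⁻¹ v)) := by
      intro i
      rw [map_mul, map_mul, map_pow]; rfl
    rw [Finset.sum_congr rfl (fun i _ => h2 i), ← map_sum]
    have h3 : ∑ i ∈ Finset.range p, (ρ t ^ i) (ρ (x : G)⁻¹ v) =
        (∑ i ∈ Finset.range p, ρ t ^ i) (ρ (x : G)⁻¹ v) := by
      rw [LinearMap.sum_apply]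
    rw [h3, h0, LinearMap.zero_apply, map_zero]
  rw [Finset.sum_comm] at h1
  have h2 : ∀ i ∈ Finset.range p, ∑ x : Q, ρ ((x : G) * t ^ i * (x : G)⁻¹) v =
      if i = 0 then (Nat.card Q : ZMod p) • v else 0 := by
    intro i hi
    split_ifs with h
    · subst h
      simp only [pow_zero, mul_one, mul_inv_cancel, map_one, Module.End.one_apply, Finset.sum_const,
        Finset.card_univ]
      rw [← Nat.card_eq_fintype_card, Nat.cast_smul_eq_nsmul]
    · have hi0 : 0 < i := Nat.pos_of_ne_zero h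
      have hip : i < p := Finset.mem_range.mp hi
      let f : Q → Q := fun x => ⟨(x : G) * (t ^ i * (x : G)⁻¹ * (t ^ i)⁻¹),
        Q.mul_mem x.2 (htn i _ (Q.inv_mem x.2))⟩
      have hinj : Function.Injective f := by
        intro x y hxy
        have h3 : (x : G) * (t ^ i * (x : G)⁻¹ * (t ^ i)⁻¹) = (y : G) * (t ^ i * (y : G)⁻¹ * (t ^ i)⁻¹) :=
          congrArg Subtype.val hxy
        have h4 : (y : G)⁻¹ * (x : G) = 1 := by
          apply hfi i hi0 hip _ (Q.mul_mem (Q.inv_mem y.2) x.2)
          have h5 : (x : G) * (t ^ i * (x : G)⁻¹) = (y : G) * (t ^ i * (y : G)⁻¹) := by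
            have := congrArg (· * t ^ i) h3
            simpa [mul_assoc] using this
          have h6 : (y : G)⁻¹ * (x : G) * t ^ i = t ^ i * ((y : G)⁻¹ * (x : G)) := by
            calc (y : G)⁻¹ * (x : G) * t ^ i = (y : G)⁻¹ * ((x : G) * (t ^ i * (x : G)⁻¹)) * (x : G) := by group
              _ = (y : G)⁻¹ * ((y : G) * (t ^ i * (y : G)⁻¹)) * (x : G) := by rw [h5]
              _ = _ := by group
          exact h6.symm
        apply Subtype.ext
        exact (inv_mul_eq_one.mp h4).symm
      have hbij : Function.Bijective f := Finite.injective_iff_bijective.mp hinj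
      have h3 : ∀ x : Q, ρ ((x : G) * t ^ i * (x : G)⁻¹) v = ρ ((f x : Q) : G) (ρ (t ^ i) v) := by
        intro x
        have h4 : (x : G) * t ^ i * (x : G)⁻¹ = ((f x : Q) : G) * t ^ i := by
          show (x : G) * t ^ i * (x : G)⁻¹ = (x : G) * (t ^ i * (x : G)⁻¹ * (t ^ i)⁻¹) * t ^ i
          group
        rw [h4, map_mul]; rfl
      rw [Finset.sum_congr rfl (fun x _ => h3 x)]
      have h5 := hsum (ρ (t ^ i) v)
      rw [← h5]
      exact Fintype.sum_bijective f hbij _ _ (fun x => rfl)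
  rw [Finset.sum_congr rfl h2, Finset.sum_ite_eq' (Finset.range p) 0,
    if_pos (Finset.mem_range.mpr hp.out.pos)] at h1
  rw [smul_eq_zero] at h1
  rcases h1 with h1 | h1
  · rw [ZMod.natCast_eq_zero_iff] at h1
    have := Nat.Coprime.eq_one_of_dvd (Nat.coprime_comm.mp hQ) h1
    exact hp.out.one_lt.ne' this
  · exact hv h1

/-- `|A| = p ^ p`. -/
theorem card_eq {G : Type*} [Group G] {p : ℕ} [hp : Fact p.Prime] (A Q : Subgroup G) [A.Normal]
    [Finite A] [Finite Q] (hA : ∀ a ∈ A, ∀ b ∈ A, a * b = b * a) (hexp : ∀ a ∈ A, a ^ p = 1)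
    (hne : A ≠ ⊥) (t : G) (ht : t ^ p = 1) (hQ : (Nat.card Q).Coprime p)
    (htQ : ∀ x ∈ Q, t * x * t⁻¹ ∈ Q) (hfix : ∀ x ∈ Q, t * x = x * t → x = 1)
    (hAQ : ∀ a ∈ A, (∀ x ∈ Q, x * a = a * x) → a = 1)
    (hAt : Nat.card (A ⊓ centralizer ({t} : Set G) : Subgroup G) ≤ p) : Nat.card A = p ^ p := by
  obtain ⟨V, i1, i2, i3, e, ρ, hadd, hconj⟩ := H62.ConjRep.exists_rep A p hA hexp
  have hfd : FiniteDimensional (ZMod p) V := Module.Finite.of_finite
  have hzero : (e 0 : G) = 1 := by
    have := hadd 0 0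
    rw [add_zero] at this
    exact left_eq_mul.mp this
  have hnt : Nontrivial V := by
    obtain ⟨a, ha, ha1⟩ := (Subgroup.ne_bot_iff_exists_ne_one.mp hne : ∃ a : A, a ≠ 1) |>.elim
      (fun a h => (⟨a, a.2, fun h' => h (Subtype.ext h')⟩ : ∃ a : G, a ∈ A ∧ a ≠ 1))
    refine ⟨⟨e.symm ⟨a, ha⟩, 0, fun h => ha1 ?_⟩⟩
    rw [← hzero, ← h, e.apply_symm_apply]
  have hne' := norm_ne_zero ρ Q t ht hQ htQ hfix (by
    intro v hv
    apply e.injective
    apply Subtype.ext
    rw [hzero]
    apply hAQ _ (e v).2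
    intro x hx
    have h1 := hconj x v
    rw [hv x hx] at h1
    exact eq_mul_inv_iff_mul_eq.mp h1 |>.symm)
  rw [← sub_one_pow] at hne'
  have hT : ρ t ^ p = 1 := by rw [← map_pow, ht, map_one]
  have h0 : (ρ t - 1) ^ p = 0 := by
    have h01 : (ρ t - 1) ^ p = (ρ t - 1) ^ (p - 1) * (ρ t - 1) := by
      rw [← pow_succ, Nat.sub_add_cancel hp.out.one_le]
    rw [h01, sub_one_pow, geom_sum_mul, hT, sub_self]
  have hker : Module.finrank (ZMod p) (LinearMap.ker (ρ t - 1)) ≤ 1 := by
    have h1 : Nat.card (LinearMap.ker (ρ t - 1)) ≤ p := by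
      refine le_trans ?_ hAt
      have hfi : Finite (A ⊓ centralizer ({t} : Set G) : Subgroup G) :=
        Finite.of_injective (Subgroup.inclusion inf_le_left) (Subgroup.inclusion_injective _)
      let g : LinearMap.ker (ρ t - 1) → (A ⊓ centralizer ({t} : Set G) : Subgroup G) := fun v =>
        ⟨(e v : G), (e v).2, by
          show (e v : G) ∈ centralizer ({t} : Set G)
          rw [mem_centralizer_singleton_iff]
          have hv : (ρ t - 1) (v : V) = 0 := v.2
          rw [LinearMap.sub_apply, Module.End.one_apply, sub_eq_zero] at hv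
          have h2 := hconj t v
          rw [hv] at h2
          exact (eq_mul_inv_iff_mul_eq.mp h2)⟩
      apply Nat.card_le_card_of_injective g
      intro v w hvw
      have := congrArg (fun z : (A ⊓ centralizer ({t} : Set G) : Subgroup G) => (z : G)) hvw
      exact Subtype.ext (e.injective (Subtype.ext this))
    have h2 : Nat.card (LinearMap.ker (ρ t - 1)) = p ^ Module.finrank (ZMod p) (LinearMap.ker (ρ t - 1)) := by
      rw [Module.natCard_eq_pow_finrank (K := ZMod p), Nat.card_zmod]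
    rw [h2] at h1
    have h3 : p ^ Module.finrank (ZMod p) (LinearMap.ker (ρ t - 1)) ≤ p ^ 1 := by rwa [pow_one]
    exact (Nat.pow_le_pow_iff_right hp.out.one_lt).mp h3
  have h4 := finrank_eq (ρ t - 1) p hp.out.pos h0 hne' hker
  have h5 : Nat.card V = p ^ Module.finrank (ZMod p) V := by
    rw [Module.natCard_eq_pow_finrank (K := ZMod p), Nat.card_zmod]
  rw [← Nat.card_congr e, h5, h4]

end H37.FrobFree
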