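import Mathlib
import Cfsg.Agent.Lib.H75.PH2
import Cfsg.Agent.Lib.H1.SZ

set_option autoImplicit false
set_option linter.all false
set_option maxHeartbeats 1000000

/-! Reduction of S3258 to simple groups, and the easy direction. -/

namespace H37.RedPi

open Subgroup H75.PH
open scoped Pointwise

universe u v

def Hom (π : Set ℕ) (G : Type u) [Group G] : Prop :=
  ∀ H : Subgroup G, H ≠ ⊥ → Pi π (Nat.card H) →
    Pi π ((centralizer (H : Set G)).relIndex (normalizer (H : Set G)))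

/-- element form -/
def Hom' (π : Set ℕ) (G : Type u) [Group G] : Prop :=
  ∀ H : Subgroup G, Pi π (Nat.card H) → ∀ g ∈ normalizer (H : Set G), Pd π (orderOf g) →
    ∀ h ∈ H, g * h = h * g

def Cl0 (π : Set ℕ) (G : Type u) [Group G] : Prop := ∃ K : Subgroup G, ∀ x, x ∈ K ↔ Pd π (orderOf x)

/-- 2-elements are closed under multiplication -/
def E2 (G : Type u) [Group G] : Prop :=
  ∀ x y : G, Pd ({2}ᶜ) (orderOf x) → Pd ({2}ᶜ) (orderOf y) → Pd ({2}ᶜ) (orderOf (x * y))

section basic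

variable {G : Type u} [Group G] {π : Set ℕ}

theorem pi_of_elts [Finite G] {N C : Subgroup G} (h : ∀ g ∈ N, Pd π (orderOf g) → g ∈ C) :
    Pi π (C.relIndex N) := by
  intro p hp hd
  by_contra hpπ
  haveI : Fact p.Prime := ⟨hp⟩
  let S : Sylow p N := default
  have h1 : (S : Subgroup N) ≤ C.subgroupOf N := by
    intro x hx
    rw [mem_subgroupOf]
    refine h _ x.2 ?_
    obtain ⟨k, hk⟩ := IsPGroup.iff_orderOf.1 S.2 ⟨x, hx⟩
    have : orderOf (x : G) = p ^ k := by
      rw [Subgroup.orderOf_coe, ← hk]; exact (Subgroup.orderOf_mk x hx).symm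
    rw [this]; exact Pd.pow hp hpπ k
  have h2 : (C.subgroupOf N).index ∣ (S : Subgroup N).index := Subgroup.index_dvd_of_le h1
  exact S.not_dvd_index (hd.trans h2)

theorem mem_of_pi [Finite G] {N C : Subgroup G} (hn : (C.subgroupOf N).Normal)
    (h : Pi π (C.relIndex N)) {g : G} (hg : g ∈ N) (ho : Pd π (orderOf g)) : g ∈ C := by
  have h1 : orderOf (QuotientGroup.mk' (C.subgroupOf N) ⟨g, hg⟩) ∣ orderOf g := by
    have := orderOf_map_dvd (QuotientGroup.mk' (C.subgroupOf N)) ⟨g, hg⟩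
    rwa [Subgroup.orderOf_mk] at this
  have h2 : orderOf (QuotientGroup.mk' (C.subgroupOf N) ⟨g, hg⟩) ∣ C.relIndex N := by
    have := orderOf_dvd_natCard (QuotientGroup.mk' (C.subgroupOf N) ⟨g, hg⟩)
    exact this
  have h3 : orderOf (QuotientGroup.mk' (C.subgroupOf N) ⟨g, hg⟩) = 1 :=
    eq_one_of_both (h.mono h2) (ho.mono h1)
  rw [orderOf_eq_one_iff, QuotientGroup.mk'_apply, QuotientGroup.eq_one_iff, mem_subgroupOf] at h3
  exact h3

theorem normal_cent (H : Subgroup G) :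
    ((centralizer (H : Set G)).subgroupOf (normalizer (H : Set G))).Normal := by
  refine ⟨fun x hx g => ?_⟩
  rw [mem_subgroupOf, mem_centralizer_iff] at hx ⊢
  intro h hh
  have h1 : (g : G)⁻¹ * h * (g : G)⁻¹⁻¹ ∈ H := (mem_normalizer_iff.1 (inv_mem g.2) h).1 hh
  have h2 := hx _ h1
  show h * ((g : G) * x * (g : G)⁻¹) = (g : G) * x * (g : G)⁻¹ * h
  have h3 : (g : G) * (((g : G)⁻¹ * h * (g : G)⁻¹⁻¹) * x) * (g : G)⁻¹ =
    (g : G) * (x * ((g : G)⁻¹ * h * (g : G)⁻¹⁻¹)) * (g : G)⁻¹ := by rw [h2]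
  calc h * ((g : G) * x * (g : G)⁻¹) = (g : G) * (((g : G)⁻¹ * h * (g : G)⁻¹⁻¹) * x) * (g : G)⁻¹ := by group
    _ = _ := h3
    _ = _ := by group

theorem hom_iff [Finite G] : Hom π G ↔ Hom' π G := by
  constructor
  · intro h H hH g hg ho x hx
    by_cases hb : H = ⊥
    · rw [hb, mem_bot] at hx
      rw [hx]; simp
    have := mem_of_pi (normal_cent H) (h H hb hH) hg ho
    rw [mem_centralizer_iff] at this
    exact (this x hx).symm
  · intro h H _ hH
    refine pi_of_elts fun g hg ho => ?_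
    rw [mem_centralizer_iff]
    intro x hx
    exact (h H hH g hg ho x hx).symm

theorem lift_pd [Finite G] {Y : Type v} [Group Y] (f : G →* Y) :
    ∀ (n : ℕ) (x : G), orderOf x = n → Pd π (orderOf (f x)) → ∃ x', f x' = f x ∧ Pd π (orderOf x') := by
  intro n
  induction n using Nat.strong_induction_on with
  | _ n ih =>
  intro x hn hx
  by_cases h : Pd π (orderOf x)
  · exact ⟨x, rfl, h⟩
  · unfold Pd at h
    push Not at h
    obtain ⟨p, hp, hd, hpπ⟩ := h
    have hcop : p.Coprime (orderOf (f x)) := by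
      rw [Nat.Prime.coprime_iff_not_dvd hp]
      exact fun hd' => hx p hp hd' hpπ
    obtain ⟨m, hm⟩ := exists_pow_eq_self_of_coprime hcop
    have hf : f ((x ^ p) ^ m) = f x := by rw [map_pow, map_pow]; exact hm
    have hlt : orderOf ((x ^ p) ^ m) < n := by
      have h1 : orderOf ((x ^ p) ^ m) ∣ orderOf (x ^ p) := orderOf_pow_dvd m
      have h2 : orderOf (x ^ p) = orderOf x / p := by
        rw [orderOf_pow' x hp.ne_zero, Nat.gcd_eq_right hd]
      have h0 : 0 < orderOf x := orderOf_pos x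
      have h3 : orderOf x / p < orderOf x := Nat.div_lt_self h0 hp.one_lt
      have h4 : 0 < orderOf (x ^ p) := orderOf_pos _
      have := Nat.le_of_dvd h4 h1
      omega
    obtain ⟨x', h1, h2⟩ := ih _ hlt _ rfl (by rw [hf]; exact hx)
    exact ⟨x', h1.trans hf, h2⟩

theorem E2.of_surj [Finite G] {Y : Type v} [Group Y] (h : E2 G) (f : G →* Y)
    (hf : Function.Surjective f) : E2 Y := by
  intro a b ha hb
  obtain ⟨x, rfl⟩ := hf a
  obtain ⟨y, rfl⟩ := hf b
  obtain ⟨x', hx', hx2⟩ := lift_pd f _ x rfl ha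
  obtain ⟨y', hy', hy2⟩ := lift_pd f _ y rfl hb
  rw [← hx', ← hy', ← map_mul]
  exact (h _ _ hx2 hy2).mono (orderOf_map_dvd f _)

theorem pd_two_iff {n : ℕ} (hn : n ≠ 0) : Pd ({2}ᶜ) n ↔ ∃ k, n = 2 ^ k := by
  constructor
  · intro h
    refine ⟨_, Nat.eq_prime_pow_of_unique_prime_dvd hn ?_⟩
    intro d hd hdn
    have := h d hd hdn
    simpa using this
  · rintro ⟨k, rfl⟩
    exact Pd.pow Nat.prime_two (by simp) k

theorem pgroup_iff [Finite G] {T : Subgroup G} : IsPGroup 2 T ↔ ∀ x ∈ T, Pd ({2}ᶜ) (orderOf x) := by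
  rw [IsPGroup.iff_orderOf]
  constructor
  · intro h x hx
    obtain ⟨k, hk⟩ := h ⟨x, hx⟩
    rw [Subgroup.orderOf_mk] at hk
    rw [pd_two_iff (orderOf_pos x).ne']
    exact ⟨k, hk⟩
  · intro h x
    obtain ⟨k, hk⟩ := (pd_two_iff (orderOf_pos (x : G)).ne').1 (h x x.2)
    exact ⟨k, by rw [← Subgroup.orderOf_coe]; exact hk⟩

theorem e2_of_normal [Finite G] (h : ∀ P : Sylow 2 G, (P : Subgroup G).Normal) : E2 G := by
  let P : Sylow 2 G := default
  have hu : ∀ x : G, Pd ({2}ᶜ) (orderOf x) → x ∈ (P : Subgroup G) := by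
    intro x hx
    have h1 : IsPGroup 2 (zpowers x) := by
      rw [pgroup_iff]
      intro y hy
      exact hx.mono (orderOf_dvd_of_mem_zpowers hy)
    obtain ⟨Q, hQ⟩ := h1.exists_le_sylow
    haveI := h P
    haveI : Subsingleton (Sylow 2 G) := by
      refine ⟨fun A B => ?_⟩
      haveI := h A
      obtain ⟨g, hg⟩ := MulAction.exists_smul_eq G A B
      rw [← hg]
      rw [Sylow.smul_eq_of_normal]
    have : Q = P := Subsingleton.elim _ _
    rw [← this]
    exact hQ (mem_zpowers x)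
  intro x y hx hy
  exact pgroup_iff.1 P.2 _ (mul_mem (hu x hx) (hu y hy))

theorem normal_of_e2 [Finite G] (h : E2 G) (P : Sylow 2 G) : (P : Subgroup G).Normal := by
  let T : Subgroup G :=
    { carrier := {x | Pd ({2}ᶜ) (orderOf x)}
      mul_mem' := fun {a b} ha hb => h a b ha hb
      one_mem' := by
        show Pd ({2}ᶜ) (orderOf (1 : G))
        rw [orderOf_one]; exact Pd.one
      inv_mem' := fun {a} ha => by
        show Pd ({2}ᶜ) (orderOf a⁻¹)
        rw [orderOf_inv]; exact ha }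
  have hT : ∀ x, x ∈ T ↔ Pd ({2}ᶜ) (orderOf x) := fun x => Iff.rfl
  have h1 : IsPGroup 2 T := pgroup_iff.2 fun x hx => hx
  have h2 : (P : Subgroup G) ≤ T := fun x hx => pgroup_iff.1 P.2 x hx
  have h3 : T = P := P.is_maximal' h1 h2
  rw [← h3]
  refine ⟨fun x hx g => ?_⟩
  rw [hT] at hx ⊢
  rw [orderOf_conj]; exact hx

theorem pcl_iff [Finite G] : PCl π G ↔ ∀ H : Subgroup G, Pi π (Nat.card H) → E2 H :=
  ⟨fun h H hH => e2_of_normal (h H hH), fun h H hH P => normal_of_e2 (h H hH) P⟩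

theorem pcl_sub [Finite G] (h : PCl π G) (L : Subgroup G) : PCl π L := by
  rw [pcl_iff] at h ⊢
  intro H hH
  have hc : Nat.card (H.map L.subtype) = Nat.card H :=
    Nat.card_congr (H.equivMapOfInjective _ L.subtype_injective).symm.toEquiv
  exact (h (H.map L.subtype) (by rw [hc]; exact hH)).of_surj
    (H.equivMapOfInjective _ L.subtype_injective).symm.toMonoidHom
    (H.equivMapOfInjective _ L.subtype_injective).symm.surjective

theorem hom_sub [Finite G] (h : Hom' π G) (L : Subgroup G) : Hom' π L := by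
  intro H hH g hg ho x hx
  have hc : Nat.card (H.map L.subtype) = Nat.card H :=
    Nat.card_congr (H.equivMapOfInjective _ L.subtype_injective).symm.toEquiv
  have h1 : (g : G) ∈ normalizer ((H.map L.subtype : Subgroup G) : Set G) := by
    rw [mem_normalizer_iff_cj]
    apply cj_eq_of_le
    rw [cj_le_iff]
    rintro _ ⟨y, hy, rfl⟩
    exact ⟨g * y * g⁻¹, (mem_normalizer_iff.1 hg y).1 hy, rfl⟩
  have h2 := h (H.map L.subtype) (by rw [hc]; exact hH) g h1 (by rw [Subgroup.orderOf_coe]; exact ho)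
    x ⟨x, hx, rfl⟩
  exact Subtype.ext h2

theorem cl_of_cl0 {L : Subgroup G} (h : Cl0 π L) : Cl π L := by
  obtain ⟨K, hK⟩ := h
  refine ⟨K.map L.subtype, fun x => ?_⟩
  constructor
  · rintro ⟨y, hy, rfl⟩
    refine ⟨y.2, ?_⟩
    have := (hK y).1 hy
    rwa [← Subgroup.orderOf_coe] at this
  · rintro ⟨hx, ho⟩
    refine ⟨⟨x, hx⟩, (hK _).2 ?_, rfl⟩
    rw [Subgroup.orderOf_mk]; exact ho

/-- the easy direction -/
theorem hom_of_cl0 (h : Cl0 π G) : Hom' π G := by
  obtain ⟨K, hK⟩ := h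
  intro H hH g hg ho x hx
  have h1 : g * x * g⁻¹ * x⁻¹ ∈ H := mul_mem ((mem_normalizer_iff.1 hg x).1 hx) (inv_mem hx)
  have h2 : g * x * g⁻¹ * x⁻¹ ∈ K := by
    have e : g * x * g⁻¹ * x⁻¹ = g * (x * g⁻¹ * x⁻¹) := by group
    rw [e]
    refine mul_mem ((hK g).2 ho) ((hK _).2 ?_)
    rw [orderOf_conj, orderOf_inv]; exact ho
  have h3 : orderOf (g * x * g⁻¹ * x⁻¹) ∣ Nat.card H := by
    have := orderOf_dvd_natCard (⟨_, h1⟩ : H)
    rwa [Subgroup.orderOf_mk] at this
  have h4 : orderOf (g * x * g⁻¹ * x⁻¹) = 1 := eq_one_of_both (hH.mono h3) ((hK _).1 h2)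
  rw [orderOf_eq_one_iff] at h4
  have := mul_inv_eq_one.1 h4
  rwa [mul_inv_eq_iff_eq_mul] at this

end basic

section quot

variable {G : Type u} [Group G] [Finite G] {π : Set ℕ} (N : Subgroup G) [hN : N.Normal]

theorem relIndex_comap (Xb : Subgroup (G ⧸ N)) :
    N.relIndex (Xb.comap (QuotientGroup.mk' N)) = Nat.card Xb := by
  have h1 := Subgroup.relIndex_ker (Xb.comap (QuotientGroup.mk' N)) (QuotientGroup.mk' N)
  rw [QuotientGroup.ker_mk'] at h1
  rw [h1, Subgroup.map_comap_eq_self_of_surjective (QuotientGroup.mk'_surjective N)]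

theorem le_comap (Xb : Subgroup (G ⧸ N)) : N ≤ Xb.comap (QuotientGroup.mk' N) := by
  intro x hx
  rw [mem_comap, QuotientGroup.mk'_apply, (QuotientGroup.eq_one_iff x).2 hx]
  exact one_mem _

theorem card_comap (Xb : Subgroup (G ⧸ N)) :
    Nat.card (Xb.comap (QuotientGroup.mk' N)) = Nat.card N * Nat.card Xb := by
  have h := Subgroup.relIndex_mul_relIndex (⊥ : Subgroup G) N (Xb.comap (QuotientGroup.mk' N)) bot_le
    (le_comap N Xb)
  rw [relIndex_bot_left, relIndex_bot_left, relIndex_comap] at h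
  exact h.symm

theorem exists_compl {X : Subgroup G} (hNX : N ≤ X) (hcop : (Nat.card N).Coprime (N.relIndex X)) :
    ∃ J ≤ X, Nat.card J = N.relIndex X := by
  haveI : (N.subgroupOf X).Normal := inferInstance
  have hc : Nat.card (N.subgroupOf X) = Nat.card N := Nat.card_congr (subgroupOfEquivOfLe hNX).toEquiv
  obtain ⟨J, hJ⟩ := Subgroup.exists_right_complement'_of_coprime (N := N.subgroupOf X)
    (by rw [hc]; exact hcop)
  refine ⟨J.map X.subtype, map_subtype_le _, ?_⟩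
  rw [relIndex, hJ.symm.index_eq_card]
  exact Nat.card_congr (J.equivMapOfInjective _ X.subtype_injective).symm.toEquiv

theorem map_eq_of_card {J : Subgroup G} {Xb : Subgroup (G ⧸ N)}
    (hJ : J ≤ Xb.comap (QuotientGroup.mk' N)) (hc : Nat.card J = Nat.card Xb)
    (hcop : (Nat.card N).Coprime (Nat.card J)) : J.map (QuotientGroup.mk' N) = Xb := by
  have hle : J.map (QuotientGroup.mk' N) ≤ Xb := map_le_iff_le_comap.2 hJ
  apply Subgroup.eq_of_le_of_card_ge hle
  have h1 := Subgroup.relIndex_ker J (QuotientGroup.mk' N)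
  rw [QuotientGroup.ker_mk'] at h1
  rw [← h1, ← hc]
  have h2 : N ⊓ J = ⊥ := Subgroup.inf_eq_bot_of_coprime hcop
  have h3 : N.relIndex J = Nat.card J := by
    rw [← Subgroup.inf_relIndex_right, h2, relIndex_bot_left]
  rw [h3]

/-- restriction of the quotient map -/
noncomputable def qres {J : Subgroup G} {Xb : Subgroup (G ⧸ N)}
    (h : J.map (QuotientGroup.mk' N) = Xb) : J →* Xb :=
  ((QuotientGroup.mk' N).comp J.subtype).codRestrict Xb fun x => by
    rw [← h]; exact ⟨x, x.2, rfl⟩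

theorem qres_surj {J : Subgroup G} {Xb : Subgroup (G ⧸ N)}
    (h : J.map (QuotientGroup.mk' N) = Xb) : Function.Surjective (qres N h) := by
  rintro ⟨y, hy⟩
  have hy' := hy
  rw [← h] at hy'
  obtain ⟨x, hx, hxy⟩ := hy'
  exact ⟨⟨x, hx⟩, Subtype.ext hxy⟩

theorem map_comap (Xb : Subgroup (G ⧸ N)) :
    (Xb.comap (QuotientGroup.mk' N)).map (QuotientGroup.mk' N) = Xb :=
  Subgroup.map_comap_eq_self_of_surjective (QuotientGroup.mk'_surjective N) Xb

theorem orderOf_dvd_mk (g : G) : orderOf g ∣ orderOf (QuotientGroup.mk' N g) * Nat.card N := by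
  rw [orderOf_dvd_iff_pow_eq_one, pow_mul]
  have h1 : g ^ orderOf (QuotientGroup.mk' N g) ∈ N := by
    rw [← QuotientGroup.eq_one_iff]
    have := pow_orderOf_eq_one (QuotientGroup.mk' N g)
    rw [← map_pow] at this
    exact this
  have h2 := orderOf_dvd_natCard (⟨_, h1⟩ : N)
  rw [Subgroup.orderOf_mk] at h2
  exact orderOf_dvd_iff_pow_eq_one.1 h2

theorem mem_norm_comap {Xb : Subgroup (G ⧸ N)} {g : G}
    (hg : QuotientGroup.mk' N g ∈ normalizer (Xb : Set (G ⧸ N))) :
    g ∈ normalizer ((Xb.comap (QuotientGroup.mk' N) : Subgroup G) : Set G) := by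
  rw [mem_normalizer_iff_cj]
  apply cj_eq_of_le
  rw [cj_le_iff]
  intro x hx
  rw [mem_comap] at hx ⊢
  rw [map_mul, map_mul, map_inv]
  exact (mem_normalizer_iff.1 hg _).1 hx

/-- quotient by a normal `π'`-subgroup -/
theorem pcl_quot (hP : PCl π G) (hNd : Pd π (Nat.card N)) : PCl π (G ⧸ N) := by
  rw [pcl_iff] at hP ⊢
  intro Xb hXb
  have hcop : (Nat.card N).Coprime (N.relIndex (Xb.comap (QuotientGroup.mk' N))) := by
    rw [relIndex_comap]
    exact (coprime_of hXb hNd).symm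
  obtain ⟨J, hJ, hJc⟩ := exists_compl N (le_comap N Xb) hcop
  rw [← hJc] at hcop
  rw [relIndex_comap] at hJc
  have hm := map_eq_of_card N hJ hJc hcop
  exact (hP J (by rw [hJc]; exact hXb)).of_surj (qres N hm) (qres_surj N hm)

theorem hom_quot (hH : Hom' π G) (hNd : Pd π (Nat.card N)) (hs : Group.IsSolvable N) :
    Hom' π (G ⧸ N) := by
  intro Xb hXb gb hgb hob xb hxb
  obtain ⟨g, rfl⟩ := QuotientGroup.mk'_surjective N gb
  set X := Xb.comap (QuotientGroup.mk' N) with hX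
  have hcop : (Nat.card N).Coprime (N.relIndex X) := by
    rw [hX, relIndex_comap]
    exact (coprime_of hXb hNd).symm
  obtain ⟨J, hJ, hJc⟩ := exists_compl N (le_comap N Xb) hcop
  have hJc' := hJc
  rw [relIndex_comap] at hJc'
  have hm := map_eq_of_card N hJ hJc' (by rw [hJc]; exact hcop)
  have hgX := mem_norm_comap N hgb
  have hXn : X ≤ normalizer (N : Set G) := by
    rw [Subgroup.normalizer_eq_top_iff.2 hN]; exact le_top
  have hJ2 : MulAut.conj g • J ≤ X := by
    intro x hx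
    rw [H1.SZ.mem_conj_smul] at hx
    have h1 := (mem_normalizer_iff.1 hgX _).1 (hJ hx)
    have e : g * (g⁻¹ * x * g) * g⁻¹ = x := by group
    rwa [e] at h1
  obtain ⟨n, hn, hnJ⟩ := H1.SZ.conj_of_card_rel X N (le_comap N Xb) hXn hcop (Or.inl hs)
    (MulAut.conj g • J) J hJ2 hJ (by rw [H1.SZ.card_conj_smul]; exact hJc) hJc
  rw [← H1.SZ.conj_mul_smul] at hnJ
  have h1 : n * g ∈ normalizer (J : Set G) := H1.SZ.mem_normalizer_of_conj_smul_eq hnJ
  have h2 : QuotientGroup.mk' N (n * g) = QuotientGroup.mk' N g := by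
    rw [map_mul]
    have : QuotientGroup.mk' N n = 1 := (QuotientGroup.eq_one_iff n).2 hn
    rw [this, one_mul]
  have h3 : Pd π (orderOf (n * g)) := by
    refine Pd.mono (Pd.mul (m := orderOf (QuotientGroup.mk' N (n * g))) (n := Nat.card N) ?_ hNd)
      (orderOf_dvd_mk N _)
    rw [h2]; exact hob
  have h4 := hH J (by rw [hJc']; exact hXb) _ h1 h3
  have hxb' := hxb
  rw [← hm] at hxb'
  obtain ⟨x, hx, rfl⟩ := hxb'
  have h5 := h4 x hx
  rw [← h2, ← map_mul, ← map_mul, h5]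

/-- quotient by a normal `π`-subgroup -/
theorem pcl_quot' (hP : PCl π G) (hNd : Pi π (Nat.card N)) : PCl π (G ⧸ N) := by
  rw [pcl_iff] at hP ⊢
  intro Xb hXb
  have h1 : Pi π (Nat.card (Xb.comap (QuotientGroup.mk' N))) := by
    rw [card_comap]; exact hNd.mul hXb
  exact (hP _ h1).of_surj (qres N (map_comap N Xb)) (qres_surj N _)

theorem hom_quot' (hH : Hom' π G) (hNd : Pi π (Nat.card N)) : Hom' π (G ⧸ N) := by
  intro Xb hXb gb hgb hob xb hxb
  obtain ⟨g, rfl⟩ := QuotientGroup.mk'_surjective N gb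
  obtain ⟨g', hg', hg2⟩ := lift_pd (QuotientGroup.mk' N) _ g rfl hob
  have h1 : Pi π (Nat.card (Xb.comap (QuotientGroup.mk' N))) := by
    rw [card_comap]; exact hNd.mul hXb
  have h2 : g' ∈ normalizer ((Xb.comap (QuotientGroup.mk' N) : Subgroup G) : Set G) :=
    mem_norm_comap N (by rw [hg']; exact hgb)
  obtain ⟨x, rfl⟩ := QuotientGroup.mk'_surjective N xb
  have h3 := hH _ h1 g' h2 hg2 x hxb
  rw [← hg', ← map_mul, ← map_mul, h3]

theorem cl0_of_quot (hNd : Pd π (Nat.card N)) (h : Cl0 π (G ⧸ N)) : Cl0 π G := by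
  obtain ⟨K, hK⟩ := h
  refine ⟨K.comap (QuotientGroup.mk' N), fun x => ?_⟩
  rw [mem_comap, hK]
  exact ⟨fun h => Pd.mono (h.mul hNd) (orderOf_dvd_mk N x), fun h => h.mono (orderOf_map_dvd _ x)⟩

theorem pd_card_of_cl0 (h : Cl0 π G) {K : Subgroup G} (hK : ∀ x, x ∈ K ↔ Pd π (orderOf x)) :
    Pd π (Nat.card K) := by
  intro p hp hd hpπ
  haveI : Fact p.Prime := ⟨hp⟩
  obtain ⟨x, hx⟩ := exists_prime_orderOf_dvd_card' (G := K) p hd
  have h1 := (hK x).1 x.2
  have : orderOf (x : G) = p := by rw [Subgroup.orderOf_coe, hx]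
  rw [this] at h1
  exact h1 p hp dvd_rfl hpπ

/-- central `π`-subgroup -/
theorem cl0_of_central (hNd : Pi π (Nat.card N)) (hc : ∀ n ∈ N, ∀ g : G, n * g = g * n)
    (h : Cl0 π (G ⧸ N)) : Cl0 π G := by
  have h0 := h
  obtain ⟨K, hK⟩ := h
  have hKc := pd_card_of_cl0 h0 hK
  set X := K.comap (QuotientGroup.mk' N) with hX
  have hcop : (Nat.card N).Coprime (N.relIndex X) := by
    rw [hX, relIndex_comap]
    exact coprime_of hNd hKc
  obtain ⟨J, hJ, hJc⟩ := exists_compl N (le_comap N K) hcop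
  have hJc' := hJc
  rw [relIndex_comap] at hJc'
  have hm := map_eq_of_card N hJ hJc' (by rw [hJc]; exact hcop)
  refine ⟨J, fun x => ?_⟩
  constructor
  · intro hx
    have h1 := orderOf_dvd_natCard (⟨x, hx⟩ : J)
    rw [Subgroup.orderOf_mk, hJc'] at h1
    exact hKc.mono h1
  · intro hx
    have h1 : QuotientGroup.mk' N x ∈ K := (hK _).2 (hx.mono (orderOf_map_dvd _ x))
    rw [← hm] at h1
    obtain ⟨j, hj, hjx⟩ := h1
    have h2 : j⁻¹ * x ∈ N := QuotientGroup.eq.1 hjx
    set n := j⁻¹ * x with hn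
    have h3 : x = j * n := by rw [hn]; group
    have hcomm : Commute j n := (hc n h2 j).symm
    have h4 : j ^ orderOf x * n ^ orderOf x = 1 := by
      rw [← hcomm.mul_pow, ← h3, pow_orderOf_eq_one]
    have h5 : n ^ orderOf x ∈ N ⊓ J := by
      refine mem_inf.2 ⟨pow_mem h2 _, ?_⟩
      have : n ^ orderOf x = (j ^ orderOf x)⁻¹ := (inv_eq_of_mul_eq_one_right h4).symm
      rw [this]
      exact inv_mem (pow_mem hj _)
    have h6 : N ⊓ J = ⊥ := Subgroup.inf_eq_bot_of_coprime (by rw [hJc]; exact hcop)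
    rw [h6, mem_bot] at h5
    have h7 : orderOf n ∣ orderOf x := orderOf_dvd_of_pow_eq_one h5
    have h8 := orderOf_dvd_natCard (⟨n, h2⟩ : N)
    rw [Subgroup.orderOf_mk] at h8
    have h9 : orderOf n = 1 := eq_one_of_both (hNd.mono h8) (hx.mono h7)
    rw [orderOf_eq_one_iff] at h9
    rw [h3, h9, mul_one]
    exact hj

end quot

theorem cl0_comm {G : Type u} [Group G] [Finite G] {π : Set ℕ} (h : ∀ a b : G, a * b = b * a) :
    Cl0 π G := by
  refine ⟨{ carrier := {x | Pd π (orderOf x)}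
            mul_mem' := fun {a b} ha hb => ?_
            one_mem' := ?_
            inv_mem' := fun {a} ha => ?_ }, fun x => Iff.rfl⟩
  · show Pd π (orderOf (a * b))
    have h1 : Commute a b := h a b
    have h2 : orderOf (a * b) ∣ orderOf a * orderOf b := h1.orderOf_mul_dvd_mul_orderOf
    exact Pd.mono (Pd.mul ha hb) h2
  · show Pd π (orderOf (1 : G))
    rw [orderOf_one]; exact Pd.one
  · show Pd π (orderOf a⁻¹)
    rw [orderOf_inv]; exact ha

theorem exists_minimal_normal {G : Type u} [Group G] [Finite G] [Nontrivial G] :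
    ∃ N : Subgroup G, N.Normal ∧ N ≠ ⊥ ∧ ∀ M : Subgroup G, M.Normal → M ≤ N → M = ⊥ ∨ M = N := by
  have hex : ∃ n, ∃ N : Subgroup G, N.Normal ∧ N ≠ ⊥ ∧ Nat.card N = n :=
    ⟨_, ⊤, inferInstance, top_ne_bot, rfl⟩
  classical
  obtain ⟨N, hN, hb, hc⟩ := Nat.find_spec hex
  refine ⟨N, hN, hb, fun M hM hle => ?_⟩
  by_cases hMb : M = ⊥
  · exact Or.inl hMb
  · right
    apply Subgroup.eq_of_le_of_card_ge hle
    rw [hc]
    exact Nat.find_min' hex ⟨M, hM, hMb, rfl⟩

theorem main {π : Set ℕ} (h2 : 2 ∈ π)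
    (ft : ∀ (X : Type u) [Group X] [Finite X], Odd (Nat.card X) → Group.IsSolvable X)
    (hS : ∀ (X : Type u) [Group X] [Finite X], IsSimpleGroup X → (¬ ∀ a b : X, a * b = b * a) →
      PCl π X → Hom π X → (∀ H : Subgroup X, H ≠ ⊤ → Cl π H) → False) :
    ∀ (n : ℕ) (G : Type u) [Group G] [Finite G], Nat.card G = n → PCl π G → Hom' π G → Cl0 π G := by
  intro n
  induction n using Nat.strong_induction_on with
  | _ n ih =>
  intro G _ _ hn hP hH
  by_cases hcomm : ∀ a b : G, a * b = b * a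
  · exact cl0_comm hcomm
  haveI : Nontrivial G := by
    by_contra hc
    rw [not_nontrivial_iff_subsingleton] at hc
    exact hcomm fun a b => Subsingleton.elim _ _
  have hsub : ∀ H : Subgroup G, H ≠ ⊤ → Cl π H := by
    intro H hHt
    refine cl_of_cl0 (ih (Nat.card H) ?_ H rfl (pcl_sub hP H) (hom_sub hH H))
    have := card_lt (lt_top_iff_ne_top.2 hHt)
    rwa [card_top, hn] at this
  obtain ⟨N, hN, hNb, hmin⟩ := exists_minimal_normal (G := G)
  have hqlt : Nat.card (G ⧸ N) < n := by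
    have h1 := Subgroup.card_eq_card_quotient_mul_card_subgroup N
    have h3 : 1 < Nat.card N := (Subgroup.one_lt_card_iff_ne_bot N).2 hNb
    have h4 : 0 < Nat.card (G ⧸ N) := Nat.card_pos
    rw [← hn, h1]
    nlinarith
  by_cases hNt : N = ⊤
  · exfalso
    refine hS G ⟨fun M hM => ?_⟩ hcomm hP (hom_iff.2 hH) hsub
    have := hmin M hM (by rw [hNt]; exact le_top)
    rwa [hNt] at this
  have hNc := hsub N hNt
  have hOn : (Oc π N).Normal := by
    refine ⟨fun x hx g => conj_mem_Oc hNc ?_ hx⟩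
    rw [Subgroup.normalizer_eq_top_iff.2 hN]; trivial
  rcases hmin _ hOn (Oc_le N) with hO | hO
  · -- `N` is a `π`-group
    have hNpi : Pi π (Nat.card N) := by
      have := pi_relIndex hNc
      rwa [hO, relIndex_bot_left] at this
    have hNn : normalizer (N : Set G) = ⊤ := Subgroup.normalizer_eq_top_iff.2 hN
    have hcen : ∀ g : G, Pd π (orderOf g) → g ∈ centralizer (N : Set G) := by
      intro g hg
      rw [mem_centralizer_iff]
      intro x hx
      exact (hH N hNpi g (by rw [hNn]; trivial) hg x hx).symm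
    by_cases hC : centralizer (N : Set G) = ⊤
    · refine cl0_of_central N hNpi ?_ (ih _ hqlt (G ⧸ N) rfl (pcl_quot' N hP hNpi) (hom_quot' N hH hNpi))
      intro n hn g
      have : g ∈ centralizer (N : Set G) := by rw [hC]; trivial
      exact mem_centralizer_iff.1 this n hn
    · have hCc := hsub _ hC
      refine ⟨Oc π (centralizer (N : Set G)), fun x => ?_⟩
      rw [mem_Oc hCc]
      exact ⟨fun h => h.2, fun h => ⟨hcen x h, h⟩⟩
  · have hNd : Pd π (Nat.card N) := by
      have := card_Oc hNc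
      rwa [hO] at this
    have hs : Group.IsSolvable N := ft N (hNd.odd h2)
    exact cl0_of_quot N hNd (ih _ hqlt (G ⧸ N) rfl (pcl_quot N hP hNd) (hom_quot N hH hNd hs))

/-- RED -/
theorem red {π : Set ℕ} {G : Type u} [Group G] [Finite G] (h2 : 2 ∈ π)
    (ft : ∀ (X : Type u) [Group X] [Finite X], Odd (Nat.card X) → Group.IsSolvable X)
    (hS : ∀ (X : Type u) [Group X] [Finite X], IsSimpleGroup X → (¬ ∀ a b : X, a * b = b * a) →
      PCl π X → Hom π X → (∀ H : Subgroup X, H ≠ ⊤ → Cl π H) → False)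
    (hcl : PCl π G) : (∃ K : Subgroup G, ∀ x, x ∈ K ↔ Pd π (orderOf x)) ↔ Hom π G :=
  ⟨fun h => hom_iff.2 (hom_of_cl0 h), fun h => main h2 ft hS _ G rfl hcl (hom_iff.1 h)⟩

end H37.RedPi
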