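import Mathlib
import Cfsg.Agent.Lib.H54.RA0
import Cfsg.Agent.Lib.H3.SylowInf
import Cfsg.Agent.Lib.H37.U4a

/-! S3330, piece T0, middle part: the involution `z0` (helper37). -/

set_option autoImplicit false
set_option maxRecDepth 100000

namespace H37.T0mid

open Equiv Subgroup H54.RA

instance fact2 : Fact (Nat.Prime 2) := ⟨Nat.prime_two⟩

theorem isP_of_card {G : Type*} [Group G] (T : Subgroup G) {a : ℕ} (h : Nat.card T = 2 ^ a) : IsPGroup 2 T :=
  IsPGroup.of_card h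

theorem card_sylow_96 {G : Type*} [Group G] [Finite G] (h : Nat.card G = 96) (Q : Sylow 2 G) : Nat.card Q = 32 := by
  obtain ⟨a, ha⟩ := (IsPGroup.iff_card).1 Q.2
  have h1 := (Q : Subgroup G).card_mul_index
  have h2 := Q.not_dvd_index
  have ha' : Nat.card (Q : Subgroup G) = 2 ^ a := ha
  rw [h, ha'] at h1
  have h3 : a ≤ 6 := by
    by_contra h4
    push_neg at h4
    have h5 : 2 ^ 7 ∣ 96 := (pow_dvd_pow 2 h4).trans (Dvd.intro _ h1)
    norm_num at h5
  have hg : Nat.card Q = 2 ^ a := ha'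
  rw [hg]
  interval_cases a <;> omega

theorem exists_T2 {G : Type*} [Group G] [Finite G] (Y : Subgroup G) (hY : Nat.card Y = 96) {k : G} (hk : k * k = 1)
    (hkY : ∀ y ∈ Y, k * y * k⁻¹ ∈ Y) : ∃ T : Subgroup G, T ≤ Y ∧ Nat.card T = 32 ∧ ∀ x ∈ T, k * x * k⁻¹ ∈ T := by
  have hki : k⁻¹ = k := inv_eq_of_mul_eq_one_left hk
  have hkN : k ∈ normalizer (Y : Set G) := by
    rw [mem_normalizer_iff]
    intro y
    refine ⟨hkY y, fun hy => ?_⟩
    have := hkY _ hy
    have h1 : k * (k * y * k⁻¹) * k⁻¹ = (k * k) * y * (k * k)⁻¹ := by group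
    rw [h1, hk, inv_one, one_mul, mul_one] at this
    exact this
  let N := normalizer (Y : Set G)
  have : (Y.subgroupOf N).Normal := Subgroup.normal_in_normalizer
  let k' : N := ⟨k, hkN⟩
  have hk' : k' ^ 2 = 1 := by rw [pow_two]; exact Subtype.ext hk
  have hz : IsPGroup 2 (zpowers k') := by
    intro g
    refine ⟨1, ?_⟩
    obtain ⟨g, hg⟩ := g
    obtain ⟨i, rfl⟩ := mem_zpowers_iff.1 hg
    apply Subtype.ext
    show (k' ^ i) ^ (2 ^ 1) = 1
    rw [pow_one, ← zpow_natCast, ← zpow_mul, mul_comm, zpow_mul, zpow_natCast, hk', one_zpow]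
  obtain ⟨P, hP⟩ := hz.exists_le_sylow
  obtain ⟨Q, hQ⟩ := H3.SylowInf.exists_sylow_inf P (Y.subgroupOf N)
  have hYN : Y ≤ N := le_normalizer
  have hc1 : Nat.card (Y.subgroupOf N) = 96 := by
    rw [← hY]; exact Nat.card_congr (subgroupOfEquivOfLe hYN).toEquiv
  have hc2 : Nat.card (Q : Subgroup (Y.subgroupOf N)) = 32 := card_sylow_96 hc1 Q
  refine ⟨((P : Subgroup N) ⊓ Y.subgroupOf N).map N.subtype, ?_, ?_, ?_⟩
  · rintro _ ⟨y, hy, rfl⟩
    have hy2 : y ∈ Y.subgroupOf N := hy.2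
    exact mem_subgroupOf.1 hy2
  · have h1 : Nat.card (((P : Subgroup N) ⊓ Y.subgroupOf N).map N.subtype) =
        Nat.card ((P : Subgroup N) ⊓ Y.subgroupOf N : Subgroup N) :=
      (Nat.card_congr (((P : Subgroup N) ⊓ Y.subgroupOf N).equivMapOfInjective N.subtype N.subtype_injective).toEquiv).symm
    have h2 : Nat.card ((P : Subgroup N) ⊓ Y.subgroupOf N : Subgroup N) =
        Nat.card ((P : Subgroup N).subgroupOf (Y.subgroupOf N)) := by
      have h3 : ((P : Subgroup N) ⊓ Y.subgroupOf N).subgroupOf (Y.subgroupOf N) =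
        (P : Subgroup N).subgroupOf (Y.subgroupOf N) := inf_subgroupOf_right _ _
      rw [← h3]
      exact (Nat.card_congr (subgroupOfEquivOfLe (H := (P : Subgroup N) ⊓ Y.subgroupOf N) (K := Y.subgroupOf N)
        inf_le_right).toEquiv).symm
    rw [h1, h2, ← hQ, hc2]
  · rintro _ ⟨y, hy, rfl⟩
    refine ⟨k' * y * k'⁻¹, ⟨?_, ?_⟩, rfl⟩
    · exact P.1.mul_mem (P.1.mul_mem (hP (mem_zpowers k')) hy.1) (P.1.inv_mem (hP (mem_zpowers k')))
    · exact this.conj_mem y hy.2 k'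

def q0 : Perm (Fin 6) := swap 0 2 * swap 1 3

theorem q0_comm : ∀ a : Perm (Fin 6), a * q0 = q0 * a → ∀ b : Perm (Fin 6), b * q0 = q0 * b →
    (a * b * a⁻¹ * b⁻¹ = 1 ∨ a * b * a⁻¹ * b⁻¹ = q0) := by decide +kernel

theorem q0_ex : ∃ a : Perm (Fin 6), a * q0 = q0 * a ∧ ∃ b : Perm (Fin 6), b * q0 = q0 * b ∧
    a * b * a⁻¹ * b⁻¹ = q0 := ⟨swap 0 2, by decide +kernel, swap 0 1 * swap 2 3, by decide +kernel, by decide +kernel⟩

theorem q0_ct : q0.cycleType = {2, 2} := by decide +kernel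

theorem card_cq0 : Nat.card (centralizer ({q0} : Set (Perm (Fin 6)))) = 16 := by
  rw [Perm.nat_card_centralizer, q0_ct]
  decide +kernel

theorem sylow_of_16 (S : Subgroup (Perm (Fin 6))) (hS : Nat.card S = 16) :
    ∃ P : Sylow 2 (Perm (Fin 6)), (P : Subgroup (Perm (Fin 6))) = S := by
  apply H3.SylowInf.exists_sylow_eq
  · exact isP_of_card S (a := 4) hS
  · have h1 := S.card_mul_index
    rw [hS, Nat.card_eq_fintype_card, Fintype.card_perm, Fintype.card_fin] at h1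
    have h2 : Nat.factorial 6 = 720 := rfl
    rw [h2] at h1
    omega

theorem s6_16 (S : Subgroup (Perm (Fin 6))) (hS : Nat.card S = 16) : ∃ q : Perm (Fin 6), q * q = 1 ∧ q ≠ 1 ∧
    Perm.sign q = 1 ∧ (∀ a ∈ S, ∀ b ∈ S, a * b * a⁻¹ * b⁻¹ = 1 ∨ a * b * a⁻¹ * b⁻¹ = q) ∧
    ∃ a ∈ S, ∃ b ∈ S, a * b * a⁻¹ * b⁻¹ = q := by
  obtain ⟨P, hP⟩ := sylow_of_16 S hS
  obtain ⟨P0, hP0⟩ := sylow_of_16 _ card_cq0
  obtain ⟨σ, hσ⟩ := MulAction.exists_smul_eq (Perm (Fin 6)) P0 P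
  have hm : ∀ a, a ∈ S ↔ σ⁻¹ * a * σ ∈ centralizer ({q0} : Set (Perm (Fin 6))) := by
    intro a
    rw [← hP, ← hP0, ← hσ, Sylow.coe_subgroup_smul, mem_pointwise_smul_iff_inv_smul_mem, ← map_inv, MulAut.smul_def,
      MulAut.conj_apply, inv_inv]
  refine ⟨σ * q0 * σ⁻¹, ?_, ?_, ?_, ?_, ?_⟩
  · have h1 : q0 * q0 = 1 := by decide +kernel
    calc σ * q0 * σ⁻¹ * (σ * q0 * σ⁻¹) = σ * (q0 * q0) * σ⁻¹ := by group
      _ = 1 := by rw [h1]; group
  · intro h1
    have h2 : q0 = 1 := by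
      calc q0 = σ⁻¹ * (σ * q0 * σ⁻¹) * σ := by group
        _ = 1 := by rw [h1]; group
    exact absurd h2 (by decide +kernel)
  · rw [map_mul, map_mul, map_inv]
    have h1 : Perm.sign q0 = 1 := by decide +kernel
    rw [h1, mul_one, mul_inv_cancel]
  · intro a ha b hb
    rw [hm, mem_centralizer_singleton_iff] at ha hb
    have h1 := q0_comm _ ha _ hb
    have h2 : a * b * a⁻¹ * b⁻¹ = σ * (σ⁻¹ * a * σ * (σ⁻¹ * b * σ) * (σ⁻¹ * a * σ)⁻¹ * (σ⁻¹ * b * σ)⁻¹) * σ⁻¹ := by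
      group
    rw [h2]
    rcases h1 with h1 | h1 <;> rw [h1]
    · left; group
    · right; rfl
  · obtain ⟨a, ha, b, hb, hab⟩ := q0_ex
    refine ⟨σ * a * σ⁻¹, ?_, σ * b * σ⁻¹, ?_, ?_⟩
    · rw [hm, mem_centralizer_singleton_iff]
      have h1 : σ⁻¹ * (σ * a * σ⁻¹) * σ = a := by group
      rw [h1, ha]
    · rw [hm, mem_centralizer_singleton_iff]
      have h1 : σ⁻¹ * (σ * b * σ⁻¹) * σ = b := by group
      rw [h1, hb]
    · rw [← hab]; group

theorem conj_in {G : Type*} [Group G] [Finite G] {K A B : Subgroup G} (hK : Nat.card K = 1440) (hA : A ≤ K)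
    (hB : B ≤ K) (cA : Nat.card A = 32) (cB : Nat.card B = 32) : ∃ c ∈ K, ∀ x ∈ A, c * x * c⁻¹ ∈ B := by
  have aux : ∀ D : Subgroup G, D ≤ K → Nat.card D = 32 → ∃ P : Sylow 2 K, (P : Subgroup K) = D.subgroupOf K := by
    intro D hD cD
    have h0 : Nat.card (D.subgroupOf K) = 32 := by
      rw [← cD]; exact Nat.card_congr (subgroupOfEquivOfLe hD).toEquiv
    apply H3.SylowInf.exists_sylow_eq
    · exact isP_of_card _ (a := 5) h0
    · have h1 := (D.subgroupOf K).card_mul_index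
      rw [h0, hK] at h1
      omega
  obtain ⟨P, hP⟩ := aux A hA cA
  obtain ⟨Q, hQ⟩ := aux B hB cB
  obtain ⟨c, hc⟩ := MulAction.exists_smul_eq K P Q
  refine ⟨c, c.2, fun x hx => ?_⟩
  have h1 : c * ⟨x, hA hx⟩ * c⁻¹ ∈ B.subgroupOf K := by
    rw [← hQ, ← hc, Sylow.coe_subgroup_smul, mem_pointwise_smul_iff_inv_smul_mem, ← map_inv, MulAut.smul_def,
      MulAut.conj_apply, inv_inv, hP]
    have h2 : c⁻¹ * (c * ⟨x, hA hx⟩ * c⁻¹) * c = ⟨x, hA hx⟩ := by group
    rw [h2]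
    exact hx
  exact h1

theorem comm_conj {G : Type*} [Group G] {T : Subgroup G} {g : G} (hg : ∀ x ∈ T, g * x * g⁻¹ ∈ T) :
    ∀ x ∈ ⁅T, T⁆, g * x * g⁻¹ ∈ ⁅T, T⁆ := by
  intro x hx
  have h1 : T.map (MulAut.conj g).toMonoidHom ≤ T := by
    rintro _ ⟨y, hy, rfl⟩
    exact hg y hy
  have h2 : (⁅T, T⁆).map (MulAut.conj g).toMonoidHom ≤ ⁅T, T⁆ := by
    rw [map_commutator]
    exact commutator_mono h1 h1
  exact h2 ⟨x, hx, rfl⟩

theorem card_cconj {G : Type*} [Group G] [Finite G] {s t g : G} (h : g * t * g⁻¹ = s) :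
    Nat.card (centralizer ({s} : Set G)) = Nat.card (centralizer ({t} : Set G)) := by
  symm
  refine Nat.card_congr (Equiv.ofBijective (fun x => (⟨g * x.1 * g⁻¹, ?_⟩ : centralizer ({s} : Set G))) ⟨?_, ?_⟩)
  · have hx := mem_centralizer_singleton_iff.1 x.2
    rw [mem_centralizer_singleton_iff, ← h]
    calc g * x.1 * g⁻¹ * (g * t * g⁻¹) = g * (x.1 * t) * g⁻¹ := by group
      _ = g * (t * x.1) * g⁻¹ := by rw [hx]
      _ = g * t * g⁻¹ * (g * x.1 * g⁻¹) := by group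
  · intro x y hxy
    have h1 : g * x.1 * g⁻¹ = g * y.1 * g⁻¹ := congrArg Subtype.val hxy
    exact Subtype.ext (mul_left_cancel (mul_right_cancel h1))
  · rintro ⟨y, hy⟩
    rw [mem_centralizer_singleton_iff, ← h] at hy
    refine ⟨⟨g⁻¹ * y * g, ?_⟩, ?_⟩
    · rw [mem_centralizer_singleton_iff]
      calc g⁻¹ * y * g * t = g⁻¹ * (y * (g * t * g⁻¹)) * g := by group
        _ = g⁻¹ * (g * t * g⁻¹ * y) * g := by rw [hy]
        _ = t * (g⁻¹ * y * g) := by group
    · apply Subtype.ext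
      show g * (g⁻¹ * y * g) * g⁻¹ = y
      group

theorem mid {G : Type*} [Group G] [Finite G] {t e k : G} (ht1 : t ≠ 1) (ht2 : t * t = 1) (hk : k * k = 1)
    (hkt : k * t * k⁻¹ = e) (het : e * t = t * e) (hne : e ≠ t) (hte : ∀ g : G, g * e * g⁻¹ ≠ t * e)
    (π : centralizer ({t} : Set G) →* Perm (Fin 6)) (hs : Function.Surjective π)
    (hker : ∀ g, π g = 1 ↔ ((g : G) = 1 ∨ (g : G) = t)) (he : e ∈ centralizer ({t} : Set G))
    (hodd : Perm.sign (π ⟨e, he⟩) = -1)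
    (hc : Nat.card (centralizer ({π ⟨e, he⟩} : Set (Perm (Fin 6)))) = 48) :
    ∃ (z0 : G) (hz : z0 ∈ centralizer ({t} : Set G)), z0 * z0 = 1 ∧ k * z0 = z0 * k ∧ z0 * e = e * z0 ∧
      π ⟨z0, hz⟩ ≠ 1 ∧ Perm.sign (π ⟨z0, hz⟩) = 1 ∧
      (∃ a b : Perm (Fin 6), a * π ⟨e, he⟩ = π ⟨e, he⟩ * a ∧ b * π ⟨e, he⟩ = π ⟨e, he⟩ * b ∧
        π ⟨z0, hz⟩ = a * b * a⁻¹ * b⁻¹) ∧ ∀ g : G, g * t * g⁻¹ ≠ z0 := by
  have hS6 : S6 t := ⟨π, hs, hker⟩
  have hC : Nat.card (centralizer ({t} : Set G)) = 1440 := H37.U4a.card_ct ht1 hS6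
  have hke : k * e * k⁻¹ = t := by
    rw [← hkt]
    calc k * (k * t * k⁻¹) * k⁻¹ = (k * k) * t * (k * k)⁻¹ := by group
      _ = t := by rw [hk]; group
  -- `Y`
  let Y : Subgroup G := centralizer ({t} : Set G) ⊓ centralizer ({e} : Set G)
  have hYm : ∀ y, y ∈ Y ↔ y * t = t * y ∧ y * e = e * y := by
    intro y
    show y ∈ centralizer ({t} : Set G) ⊓ centralizer ({e} : Set G) ↔ _
    rw [mem_inf, mem_centralizer_singleton_iff, mem_centralizer_singleton_iff]
  have hY : Nat.card Y = 96 := by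
    let YC : Subgroup (centralizer ({t} : Set G)) := (centralizer ({π ⟨e, he⟩} : Set (Perm (Fin 6)))).comap π
    have h1 : YC.index = (centralizer ({π ⟨e, he⟩} : Set (Perm (Fin 6)))).index := index_comap_of_surjective _ hs
    have h2 := (centralizer ({π ⟨e, he⟩} : Set (Perm (Fin 6)))).card_mul_index
    have h3 := YC.card_mul_index
    rw [hc, Nat.card_eq_fintype_card, Fintype.card_perm, Fintype.card_fin, show Nat.factorial 6 = 720 from rfl] at h2
    rw [h1, hC] at h3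
    have h4 : (centralizer ({π ⟨e, he⟩} : Set (Perm (Fin 6)))).index = 15 := by omega
    rw [h4] at h3
    have h5 : Nat.card YC = 96 := by omega
    have h6 : YC.map (centralizer ({t} : Set G)).subtype = Y := by
      ext y
      constructor
      · rintro ⟨x, hx, rfl⟩
        rw [SetLike.mem_coe, mem_comap, mem_centralizer_singleton_iff, ← map_mul, ← map_mul] at hx
        have h7 : π (x * ⟨e, he⟩ * x⁻¹ * ⟨e, he⟩⁻¹) = 1 := by
          rw [map_mul, map_mul, hx, map_mul, map_inv, map_inv]; group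
        rw [hker] at h7
        have h8 := mem_centralizer_singleton_iff.1 x.2
        rw [hYm]
        refine ⟨h8, ?_⟩
        have h9 : ((x * ⟨e, he⟩ * x⁻¹ * ⟨e, he⟩⁻¹ : centralizer ({t} : Set G)) : G) = x.1 * e * x.1⁻¹ * e⁻¹ := rfl
        rw [h9] at h7
        show x.1 * e = e * x.1
        rcases h7 with h7 | h7
        · calc x.1 * e = (x.1 * e * x.1⁻¹ * e⁻¹) * (e * x.1) := by group
            _ = e * x.1 := by rw [h7, one_mul]
        · exfalso
          apply hte x.1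
          calc x.1 * e * x.1⁻¹ = (x.1 * e * x.1⁻¹ * e⁻¹) * e := by group
            _ = t * e := by rw [h7]
      · intro hy
        rw [hYm] at hy
        refine ⟨⟨y, mem_centralizer_singleton_iff.2 hy.1⟩, ?_, rfl⟩
        rw [SetLike.mem_coe, mem_comap, mem_centralizer_singleton_iff, ← map_mul, ← map_mul]
        congr 1
        exact Subtype.ext hy.2
    rw [← h6, ← h5]
    exact (Nat.card_congr (YC.equivMapOfInjective _ (subtype_injective _)).toEquiv).symm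
  have hkY : ∀ y ∈ Y, k * y * k⁻¹ ∈ Y := by
    intro y hy
    rw [hYm] at hy ⊢
    constructor
    · calc k * y * k⁻¹ * t = k * y * k⁻¹ * (k * e * k⁻¹) := by rw [hke]
        _ = k * (y * e) * k⁻¹ := by group
        _ = k * (e * y) * k⁻¹ := by rw [hy.2]
        _ = (k * e * k⁻¹) * (k * y * k⁻¹) := by group
        _ = t * (k * y * k⁻¹) := by rw [hke]
    · calc k * y * k⁻¹ * e = k * y * k⁻¹ * (k * t * k⁻¹) := by rw [hkt]
        _ = k * (y * t) * k⁻¹ := by group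
        _ = k * (t * y) * k⁻¹ := by rw [hy.1]
        _ = (k * t * k⁻¹) * (k * y * k⁻¹) := by group
        _ = e * (k * y * k⁻¹) := by rw [hkt]
  obtain ⟨T, hTY, hT, hkT⟩ := exists_T2 Y hY hk hkY
  have hTC : T ≤ centralizer ({t} : Set G) := hTY.trans inf_le_left
  -- image of `T`
  let S : Subgroup (Perm (Fin 6)) := (T.subgroupOf (centralizer ({t} : Set G))).map π
  have hSm : ∀ x (hx : x ∈ T), π ⟨x, hTC hx⟩ ∈ S := fun x hx => ⟨⟨x, hTC hx⟩, mem_subgroupOf.2 hx, rfl⟩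
  have hS : Nat.card S = 16 := by
    have h0 : Nat.card (T.subgroupOf (centralizer ({t} : Set G))) = 32 := by
      rw [← hT]; exact Nat.card_congr (subgroupOfEquivOfLe hTC).toEquiv
    let ρ := π.comp (T.subgroupOf (centralizer ({t} : Set G))).subtype
    have h1 : ρ.range = S := by
      rw [MonoidHom.range_comp, range_subtype]
    have h2 : Nat.card (T.subgroupOf (centralizer ({t} : Set G))) = Nat.card ρ.range * Nat.card ρ.ker := by
      rw [Subgroup.card_eq_card_quotient_mul_card_subgroup ρ.ker,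
        Nat.card_congr (QuotientGroup.quotientKerEquivRange ρ).toEquiv]
    rw [h0, h1] at h2
    have h3 : Nat.card ρ.ker ≤ 2 := by
      have h4 : Set.ncard ({1, t} : Set G) ≤ 2 := Set.ncard_insert_le _ _ |>.trans (by simp)
      refine le_trans ?_ h4
      rw [← Nat.card_coe_set_eq]
      refine Nat.card_le_card_of_injective (fun x : ρ.ker => (⟨((x : T.subgroupOf (centralizer ({t} : Set G))) : centralizer ({t} : Set G)).1, ?_⟩ : ({1, t} : Set G))) ?_
      · have h5 := (hker ((x : T.subgroupOf (centralizer ({t} : Set G))) : centralizer ({t} : Set G))).1 x.2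
        exact h5
      · intro x y hxy
        have h8 : (((x : T.subgroupOf (centralizer ({t} : Set G))) : centralizer ({t} : Set G)) : G) =
          (((y : T.subgroupOf (centralizer ({t} : Set G))) : centralizer ({t} : Set G)) : G) :=
          congrArg (fun u : ({1, t} : Set G) => (u : G)) hxy
        exact Subtype.ext (Subtype.ext (Subtype.ext h8))
    have h5 : Nat.card S ∣ 720 := by
      have := S.card_subgroup_dvd_card
      rwa [Nat.card_eq_fintype_card (α := Perm (Fin 6)), Fintype.card_perm, Fintype.card_fin,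
        show Nat.factorial 6 = 720 from rfl] at this
    have h6 : 0 < Nat.card ρ.ker := Nat.card_pos
    have h7 : Nat.card ρ.ker = 1 ∨ Nat.card ρ.ker = 2 := by omega
    rcases h7 with h7 | h7
    · rw [h7, mul_one] at h2
      rw [← h2] at h5
      norm_num at h5
    · rw [h7] at h2; omega
  obtain ⟨q, hq2, hq1, hqs, hqc, ⟨a, ha, b, hb, hab⟩⟩ := s6_16 S hS
  obtain ⟨⟨a', ha'C⟩, ha', rfl⟩ := ha
  obtain ⟨⟨b', hb'C⟩, hb', rfl⟩ := hb
  rw [SetLike.mem_coe, mem_subgroupOf] at ha' hb'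
  -- the derived subgroup of `T`
  have hDT : ⁅T, T⁆ ≤ T := commutator_le_self T
  have hq : ∀ x (hx : x ∈ ⁅T, T⁆), π ⟨x, hTC (hDT hx)⟩ = 1 ∨ π ⟨x, hTC (hDT hx)⟩ = q := by
    let W : Subgroup G := ((zpowers q).comap π).map (centralizer ({t} : Set G)).subtype
    have h1 : ⁅T, T⁆ ≤ W := by
      rw [commutator_le]
      intro x hx y hy
      refine ⟨(⟨x, hTC hx⟩ : centralizer ({t} : Set G)) * ⟨y, hTC hy⟩ * ⟨x, hTC hx⟩⁻¹ * ⟨y, hTC hy⟩⁻¹, ?_, rfl⟩
      rw [SetLike.mem_coe, mem_comap, map_mul, map_mul, map_mul, map_inv, map_inv]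
      rcases hqc _ (hSm x hx) _ (hSm y hy) with h2 | h2 <;> rw [h2]
      · exact one_mem _
      · exact mem_zpowers q
    intro x hx
    obtain ⟨y, hy, hyx⟩ := h1 hx
    have h2 : y = ⟨x, hTC (hDT hx)⟩ := Subtype.ext hyx
    rw [SetLike.mem_coe, mem_comap, h2, mem_zpowers_iff] at hy
    obtain ⟨i, hi⟩ := hy
    rcases Int.even_or_odd' i with ⟨j, rfl | rfl⟩
    · left
      rw [← hi, zpow_mul, zpow_ofNat, pow_two, hq2, one_zpow]
    · right
      rw [← hi, zpow_add, zpow_mul, zpow_ofNat, pow_two, hq2, one_zpow, one_mul, zpow_one]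
  have htD : t ∉ ⁅T, T⁆ := by
    intro h1
    have h2 := comm_conj hkT t h1
    rw [hkt] at h2
    rcases hq e h2 with h3 | h3
    · rw [h3, map_one] at hodd
      exact absurd hodd (by decide)
    · rw [h3, hqs] at hodd
      exact absurd hodd (by decide)
  have hD1 : ∀ x (hx : x ∈ ⁅T, T⁆), π ⟨x, hTC (hDT hx)⟩ = 1 → x = 1 := by
    intro x hx h1
    rcases (hker _).1 h1 with h2 | h2
    · exact h2
    · have h2 : x = t := h2
      exact absurd (h2 ▸ hx) htD
  let z0 : G := a' * b' * a'⁻¹ * b'⁻¹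
  have hzD : z0 ∈ ⁅T, T⁆ := by
    have := commutator_mem_commutator ha' hb'
    rwa [commutatorElement_def] at this
  have hzπ : π ⟨z0, hTC (hDT hzD)⟩ = q := by
    rw [← hab, ← map_mul, ← map_inv, ← map_mul, ← map_inv, ← map_mul]
    rfl
  have hz1 : z0 ≠ 1 := by
    intro h1
    apply hq1
    rw [← hzπ]
    exact (hker _).2 (Or.inl h1)
  have hfix : ∀ g : G, (∀ x ∈ T, g * x * g⁻¹ ∈ T) → g * z0 * g⁻¹ = z0 := by
    intro g hg
    have h1 := comm_conj hg z0 hzD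
    rcases hq _ h1 with h2 | h2
    · exfalso
      have h3 := hD1 _ h1 h2
      apply hz1
      calc z0 = g⁻¹ * (g * z0 * g⁻¹) * g := by group
        _ = 1 := by rw [h3]; group
    · have h3 : (g * z0 * g⁻¹) * z0⁻¹ ∈ ⁅T, T⁆ := mul_mem h1 (inv_mem hzD)
      have h4 : π ⟨(g * z0 * g⁻¹) * z0⁻¹, hTC (hDT h3)⟩ = 1 := by
        have h5 : (⟨(g * z0 * g⁻¹) * z0⁻¹, hTC (hDT h3)⟩ : centralizer ({t} : Set G)) =
          ⟨g * z0 * g⁻¹, hTC (hDT h1)⟩ * ⟨z0, hTC (hDT hzD)⟩⁻¹ := rfl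
        rw [h5, map_mul, map_inv, h2, hzπ, mul_inv_cancel]
      have h5 := hD1 _ h3 h4
      exact mul_inv_eq_one.1 h5
  have hzz : z0 * z0 = 1 := by
    have h1 : z0 * z0 ∈ ⁅T, T⁆ := mul_mem hzD hzD
    apply hD1 _ h1
    have h5 : (⟨z0 * z0, hTC (hDT h1)⟩ : centralizer ({t} : Set G)) =
      ⟨z0, hTC (hDT hzD)⟩ * ⟨z0, hTC (hDT hzD)⟩ := rfl
    rw [h5, map_mul, hzπ, hq2]
  have hTz : ∀ x ∈ T, x * z0 * x⁻¹ = z0 := fun x hx => hfix x fun y hy => mul_mem (mul_mem hx hy) (inv_mem hx)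
  have hYa := (hYm a').1 (hTY ha')
  have hYb := (hYm b').1 (hTY hb')
  refine ⟨z0, hTC (hDT hzD), hzz, ?_, ?_, ?_, ?_, ⟨π ⟨a', ha'C⟩, π ⟨b', hb'C⟩, ?_, ?_, ?_⟩, ?_⟩
  · have h1 := hfix k hkT
    calc k * z0 = (k * z0 * k⁻¹) * k := by group
      _ = z0 * k := by rw [h1]
  · exact ((hYm z0).1 (hTY (hDT hzD))).2
  · rw [hzπ]; exact hq1
  · rw [hzπ]; exact hqs
  · rw [← map_mul, ← map_mul]; congr 1; exact Subtype.ext hYa.2
  · rw [← map_mul, ← map_mul]; congr 1; exact Subtype.ext hYb.2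
  · rw [hzπ, ← hab]
  · intro g hg
    have hcz : Nat.card (centralizer ({z0} : Set G)) = 1440 := (card_cconj hg).trans hC
    have hA : T.map (MulAut.conj g).toMonoidHom ≤ centralizer ({z0} : Set G) := by
      rintro _ ⟨y, hy, rfl⟩
      show g * y * g⁻¹ ∈ _
      have h1 := mem_centralizer_singleton_iff.1 (hTC hy)
      rw [mem_centralizer_singleton_iff, ← hg]
      calc g * y * g⁻¹ * (g * t * g⁻¹) = g * (y * t) * g⁻¹ := by group
        _ = g * (t * y) * g⁻¹ := by rw [h1]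
        _ = g * t * g⁻¹ * (g * y * g⁻¹) := by group
    have hB : T ≤ centralizer ({z0} : Set G) := by
      intro x hx
      have h1 := hTz x hx
      rw [mem_centralizer_singleton_iff]
      calc x * z0 = x * z0 * x⁻¹ * x := by group
        _ = z0 * x := by rw [h1]
    have cA : Nat.card (T.map (MulAut.conj g).toMonoidHom) = 32 := by
      rw [← hT]
      exact (Nat.card_congr (T.equivMapOfInjective _ (MulAut.conj g).injective).toEquiv).symm
    obtain ⟨c, hc, hcT⟩ := conj_in hcz hA hB cA hT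
    have h1 : ∀ x ∈ T, (c * g) * x * (c * g)⁻¹ ∈ T := by
      intro x hx
      have := hcT (g * x * g⁻¹) ⟨x, hx, rfl⟩
      have h2 : (c * g) * x * (c * g)⁻¹ = c * (g * x * g⁻¹) * c⁻¹ := by group
      rw [h2]; exact this
    have h2 := hfix _ h1
    have h3 : (c * g) * t * (c * g)⁻¹ = z0 := by
      calc (c * g) * t * (c * g)⁻¹ = c * (g * t * g⁻¹) * c⁻¹ := by group
        _ = c * z0 * c⁻¹ := by rw [hg]
        _ = z0 * c * c⁻¹ := by rw [mem_centralizer_singleton_iff.1 hc]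
        _ = z0 := by group
    have h4 : t = z0 := by
      have h5 := h3.trans h2.symm
      exact mul_left_cancel (mul_right_cancel h5)
    exact htD (h4 ▸ hzD)

end H37.T0mid
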