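import Mathlib
import Cfsg.Agent.Lib.H54.RA0

/-! S3330, piece T0: `e` is not conjugate to `t e` (helper37). -/

set_option autoImplicit false
set_option maxRecDepth 100000

namespace H37.T0nte

open Equiv Subgroup H54.RA

theorem card24 : Nat.card {k : PP // k * (c3, 1) = (c3, 1) * k ∧ k * (1, t5 * swap 1 2) = (1, t5 * swap 1 2) * k} = 24 := by
  rw [Nat.card_eq_fintype_card]
  decide +kernel

theorem c3_pow : (c3, (1 : Perm (Fin 5))) ^ 3 = 1 := by decide +kernel
theorem c3_ne : (c3, (1 : Perm (Fin 5))) ≠ 1 := by decide +kernel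
theorem cs_comm : (c3, (1 : Perm (Fin 5))) * (1, t5 * swap 1 2) = (1, t5 * swap 1 2) * (c3, 1) := by decide +kernel

/-- `(0 1)(2 4)` -/
def h0 : Perm (Fin 5) := swap 0 1 * swap 2 4
theorem h0_conj : ((1 : Perm (Fin 3)), h0) * (1, swap 1 2) * (1, h0)⁻¹ = (1, t5) := by decide +kernel

theorem card_zs {G : Type*} [Group G] [Finite G] {ψ : PP →* G} {n : G} (h : RD ψ n) :
    Nat.card (centralizer ({ψ (c3, 1)} : Set G) ⊓ centralizer ({ψ (1, t5 * swap 1 2)} : Set G) : Subgroup G) = 24 := by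
  rw [← card24]
  symm
  refine Nat.card_congr (Equiv.ofBijective (fun k => ⟨ψ k.1, ?_⟩) ⟨?_, ?_⟩)
  · rw [mem_inf, mem_centralizer_singleton_iff, mem_centralizer_singleton_iff, ← map_mul, ← map_mul, ← map_mul,
      ← map_mul, k.2.1, k.2.2]
    exact ⟨rfl, rfl⟩
  · intro k k' hkk
    exact Subtype.ext (h.inj (congrArg Subtype.val hkk))
  · rintro ⟨y, hy⟩
    rw [mem_inf, mem_centralizer_singleton_iff, mem_centralizer_singleton_iff] at hy
    have h4 : y ∈ normalizer (zpowers (ψ (c3, 1)) : Set G) := by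
      have h5 : zpowers (ψ (c3, 1)) ≤ centralizer ({y} : Set G) := by
        rw [zpowers_le, mem_centralizer_singleton_iff]; exact hy.1.symm
      rw [mem_normalizer_iff]
      have h6 : ∀ a ∈ zpowers (ψ (c3, 1)), y * a * y⁻¹ = a := by
        intro a ha
        have := h5 ha
        rw [mem_centralizer_singleton_iff] at this
        rw [← this]; group
      intro a
      constructor
      · intro ha; rw [h6 a ha]; exact ha
      · intro ha
        have h7 := h6 _ ha
        have h8 : y * a * y⁻¹ = a := by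
          calc y * a * y⁻¹ = y⁻¹ * (y * (y * a * y⁻¹) * y⁻¹) * y := by group
            _ = y⁻¹ * (y * a * y⁻¹) * y := by rw [h7]
            _ = a := by group
        rw [h8] at ha; exact ha
    obtain ⟨k, rfl⟩ := h.rng y h4
    rw [← map_mul, ← map_mul, ← map_mul, ← map_mul] at hy
    exact ⟨⟨k, h.inj hy.1, h.inj hy.2⟩, rfl⟩

theorem nte {G : Type*} [Group G] [Finite G] {ψ : PP →* G} {n : G} (h : TD ψ n) (h36 : ∀ {s x g : G}, g * s * g⁻¹ = ψ (1, t5) → x ^ 3 = 1 → x ≠ 1 → x * s = s * x → Nat.card (centralizer ({x} : Set G) ⊓ centralizer ({s} : Set G) : Subgroup G) = 36) (g : G) : g * ψ (1, swap 1 2) * g⁻¹ ≠ ψ (1, t5) * ψ (1, swap 1 2) := by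
  intro hg
  have h0' : ψ (1, h0) * ψ (1, swap 1 2) * (ψ (1, h0))⁻¹ = ψ (1, t5) := by
    rw [← map_mul, ← map_inv, ← map_mul, h0_conj]
  have h1 : ψ (1, t5) * ψ (1, swap 1 2) = ψ (1, t5 * swap 1 2) := by
    rw [← map_mul, Prod.mk_mul_mk, one_mul]
  rw [h1] at hg
  have h2 : (ψ (1, h0) * g⁻¹) * ψ (1, t5 * swap 1 2) * (ψ (1, h0) * g⁻¹)⁻¹ = ψ (1, t5) := by
    rw [← hg, ← h0']; group
  have h3 := h36 (x := ψ (c3, 1)) h2 (by rw [← map_pow, c3_pow, map_one])
    (by rw [← map_one ψ]; exact fun h3 => c3_ne (h.inj h3))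
    (by rw [← map_mul, ← map_mul, cs_comm])
  rw [card_zs h.toRD] at h3
  norm_num at h3

end H37.T0nte
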